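import Groth.Agent.TameAlg50.Laws
import Mathlib.RingTheory.Localization.LocalizationLocalization
import Mathlib.RingTheory.Ideal.KrullsHeightTheorem
import Mathlib.RingTheory.Localization.Finiteness
import Mathlib.RingTheory.Norm.Transitivity

/-! Transitivity of the tame symbol along a finite birational extension. -/

set_option autoImplicit false
set_option linter.unusedSectionVars false
set_option linter.style.haveILetI false

universe u

namespace Groth.Agent.TameAlg50

open IsLocalRing

variable {A : Type u} [CommRing A] [IsNoetherianRing A] [IsLocalRing A]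

theorem ext_of_not_mem_ass (hA : ringKrullDim A = 1) {B : Type u} [CommRing B] [Algebra A B]
    (hB : CycAlg.IsFinExt A B (maximalIdeal A)) (hass : maximalIdeal A ∉ associatedPrimes A B) :
    Ext A B where
  finExt := hB
  regular c hc := by
    haveI := hB.2.1
    intro x y e
    by_contra hne
    obtain ⟨n, hn⟩ := exists_pow_le_span hA hc
    have hz : x - y ≠ 0 := sub_ne_zero.2 hne
    have hcz : c • (x - y) = 0 := by rw [smul_sub]; exact sub_eq_zero.2 e
    obtain ⟨P, hP, hle⟩ := exists_le_isAssociatedPrime_of_isNoetherianRing A (x - y) hz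
    have hkill : maximalIdeal A ^ n ≤ (⊥ : Submodule A B).colon {x - y} := fun r hr => by
      obtain ⟨s, rfl⟩ := Ideal.mem_span_singleton'.1 (hn hr)
      rw [Submodule.mem_colon_singleton, mul_smul, hcz, smul_zero]
      exact zero_mem _
    have hPm : maximalIdeal A ≤ P := (IsAssociatedPrime.isPrime hP).le_of_pow_le (hkill.trans hle)
    exact hass ((le_antisymm (le_maximalIdeal (IsAssociatedPrime.isPrime hP).ne_top) hPm) ▸ hP)

/-- Common refinement of `B` with factorizations. -/
theorem exists_refinement (hA : ringKrullDim A = 1) (B : Type u) [CommRing B] [Algebra A B]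
    [Module.Finite A B] (hB : Ext A B) {a b : A} (ha : a ∈ nonZeroDivisors A) (hb : b ∈ nonZeroDivisors A)
    {t : A} (htm : t ∈ maximalIdeal A) (ht : t ∈ nonZeroDivisors A) :
    ∃ (E : Type u) (_ : CommRing E) (_ : Algebra A E) (_ : Algebra B E) (_ : IsScalarTower A B E)
      (_ : Module.Finite A E), Ext A E ∧ FacAll E ![a, b] := by
  obtain ⟨C, _, _, _, hC, hf⟩ := exists_ext_fac hA ![a, b] (Fin.forall_fin_two.2 ⟨ha, hb⟩)
  obtain ⟨f, hfi⟩ := exists_emb htm ht B hB
  obtain ⟨g, hgi⟩ := exists_emb htm ht C hC
  let E := f.range ⊔ g.range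
  haveI : Module.Finite A f.range := Module.Finite.of_surjective f.rangeRestrict.toLinearMap f.rangeRestrict_surjective
  haveI : Module.Finite A g.range := Module.Finite.of_surjective g.rangeRestrict.toLinearMap g.rangeRestrict_surjective
  haveI : Module.Finite A E := Subalgebra.finite_sup _ _
  let i : B →ₐ[A] E := (Subalgebra.inclusion le_sup_left).comp f.rangeRestrict
  let j : C →ₐ[A] E := (Subalgebra.inclusion le_sup_right).comp g.rangeRestrict
  have hE : Ext A E := ext_subalgebra hA E
  have hfE : FacAll E ![a, b] := by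
    letI := j.toRingHom.toAlgebra
    haveI : IsScalarTower A C E := IsScalarTower.of_algebraMap_eq fun x => (j.commutes x).symm
    exact facAll_push (B := C) hE (Fin.forall_fin_two.2 ⟨ha, hb⟩) hf
  refine ⟨E, inferInstance, inferInstance, i.toRingHom.toAlgebra, ?_, inferInstance, hE, hfE⟩
  letI := i.toRingHom.toAlgebra
  exact IsScalarTower.of_algebraMap_eq fun x => (i.commutes x).symm

theorem symbol_units {R : Type u} [CommRing R] [IsNoetherianRing R] [IsLocalRing R] {x y : R}
    (hx : IsUnit x) (hy : IsUnit y) : CycAlg.tameSymbol R x y = 1 := by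
  rw [CycAlg.tameSymbol]
  split_ifs with h
  · haveI := (Classical.choice h).isFinExt.2.1
    rw [value_eq_val, val_units hx hy]
  · rfl

theorem tame_map_equiv {R S : Type u} [CommRing R] [CommRing S] [IsLocalRing R] [IsLocalRing S]
    (e : R ≃+* S) {a b : R} (h : Fac R ![a, b]) :
    tame S (e a) (e b) = ResidueField.mapEquiv e (tame R a b) := by
  obtain ⟨π, hπ, w, z, i, j, rfl, rfl⟩ := h.pair
  have hπ' : e π ∈ nonZeroDivisors S := by
    rw [mem_nonZeroDivisors_iff_right]
    intro x hx
    have : e.symm x * π = 0 := e.injective (by rw [map_mul, e.apply_symm_apply, hx, map_zero])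
    rw [← e.apply_symm_apply x, mul_right_mem_nonZeroDivisors_eq_zero_iff hπ |>.1 this, map_zero]
  have hord : ordN S (e π) = ordN R π := by
    letI := e.toRingHom.toAlgebra
    unfold ordN Ring.ord
    congr 1
    rw [← Module.length_eq_of_surjective (R := S) (S := R) (M := S ⧸ Ideal.span {e π}) e.surjective]
    refine (Submodule.Quotient.equiv (Ideal.span {π}) ((Ideal.span {e π}).restrictScalars R)
      { e with map_smul' := fun c x => by simp [Algebra.smul_def, RingHom.algebraMap_toAlgebra] } ?_ ≪≫ₗ
        Submodule.Quotient.restrictScalarsEquiv R _).length_eq.symm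
    ext x
    simp only [Submodule.mem_map, Submodule.restrictScalars_mem, Ideal.mem_span_singleton']
    constructor
    · rintro ⟨y, ⟨c, rfl⟩, rfl⟩
      exact ⟨e c, by simp⟩
    · rintro ⟨c, rfl⟩
      exact ⟨e.symm c * π, ⟨e.symm c, rfl⟩, by simp⟩
  have hres : ∀ u : R, residue S (e u) = ResidueField.mapEquiv e (residue R u) := fun u => rfl
  have key : ∀ (w : Rˣ) (i : ℕ), e ((w : R) * π ^ i) =
      ((Units.map (e : R →* S) w : Sˣ) : S) * e π ^ i := fun w i => by
    rw [map_mul, map_pow]; rfl
  rw [key, key, tame_fac hπ', tame_fac hπ, hord]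
  simp only [Units.coe_map, MonoidHom.coe_coe, hres, map_pow, map_mul, map_inv₀, map_neg, map_one]

section Localize

variable {B C : Type u} [CommRing B] [CommRing C] [Algebra A B] [Algebra A C] [Algebra B C]
  [IsScalarTower A B C] [Module.Finite A B] [Module.Finite A C]

theorem dim_local (hA : ringKrullDim A = 1) (hB : Ext A B) {t : A} (htm : t ∈ maximalIdeal A)
    (ht : t ∈ nonZeroDivisors A) (q : MaximalSpectrum B) :
    ringKrullDim (Localization.AtPrime q.asIdeal) = 1 := by
  haveI : IsNoetherianRing B := isNoetherianRing_of_finite (A := A)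
  haveI := isLocalHom_atPrime (A := A) q
  let R := Localization.AtPrime q.asIdeal
  have htR : algebraMap A R t ∈ maximalIdeal R := map_nonunit _ t htm
  obtain ⟨n, hn⟩ := exists_pow_le_span hA ht
  have hprime : ∀ P : Ideal R, P.IsPrime → algebraMap A R t ∈ P → P = maximalIdeal R := by
    intro P hP htP
    let P' := P.comap (algebraMap B R)
    haveI : P'.IsPrime := hP.comap _
    have hPA : maximalIdeal A ≤ P'.comap (algebraMap A B) := by
      haveI : (P'.comap (algebraMap A B)).IsPrime := Ideal.IsPrime.comap _
      refine Ideal.IsPrime.le_of_pow_le (n := n) (hn.trans ?_)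
      rw [Ideal.span_singleton_le_iff_mem, Ideal.mem_comap, Ideal.mem_comap,
        ← IsScalarTower.algebraMap_apply]
      exact htP
    have hmax : P'.IsMaximal := by
      refine Ideal.isMaximal_of_isIntegral_of_isMaximal_comap (R := A) P' ?_
      rw [le_antisymm (le_maximalIdeal (Ideal.IsPrime.comap _).ne_top) hPA]
      exact maximalIdeal.isMaximal A
    have hle : P' ≤ q.asIdeal := by
      rw [← IsLocalization.AtPrime.under_maximalIdeal R q.asIdeal]
      exact Ideal.comap_mono (le_maximalIdeal hP.ne_top)
    have hPq : P' = q.asIdeal := hmax.eq_of_le q.isMaximal.ne_top hle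
    refine le_antisymm (le_maximalIdeal hP.ne_top) ?_
    rw [← IsLocalization.map_comap q.asIdeal.primeCompl R P,
      ← IsLocalization.AtPrime.map_eq_maximalIdeal q.asIdeal R]
    exact Ideal.map_mono hPq.ge
  rw [← IsLocalRing.maximalIdeal_height_eq_ringKrullDim]
  have hle : (maximalIdeal R).height ≤ 1 := by
    haveI : (Ideal.span {algebraMap A R t}).IsPrincipal := ⟨⟨_, rfl⟩⟩
    refine Ideal.height_le_one_of_isPrincipal_of_mem_minimalPrimes (Ideal.span {algebraMap A R t}) _
      ⟨⟨inferInstance, (Ideal.span_singleton_le_iff_mem _).2 htR⟩, fun P hP hPm => ?_⟩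
    exact (hprime P hP.1 (hP.2 (Ideal.mem_span_singleton_self _))).ge
  have hge : (maximalIdeal R).height ≠ 0 := fun h0 => by
    rw [Ideal.height_eq_zero_iff] at h0
    exact (Ideal.disjoint_nonZeroDivisors_of_mem_minimalPrimes h0).le_bot
      ⟨htR, regular_localization hB q ht⟩
  rw [show (maximalIdeal R).height = 1 from le_antisymm hle (Order.one_le_iff_pos.2 (pos_iff_ne_zero.2 hge))]
  rfl

variable (C) in
/-- The localization of `C` over `q`. -/
abbrev CAt (q : MaximalSpectrum B) : Type u :=
  Localization (Algebra.algebraMapSubmonoid C q.asIdeal.primeCompl)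

theorem ext_local (hA : ringKrullDim A = 1) (hB : Ext A B) (hC : Ext A C) {t : A}
    (htm : t ∈ maximalIdeal A) (ht : t ∈ nonZeroDivisors A) (q : MaximalSpectrum B) :
    Ext (Localization.AtPrime q.asIdeal) (CAt C q) := by
  haveI : IsNoetherianRing B := isNoetherianRing_of_finite (A := A)
  haveI : Module.Finite B C := finite_BC hC
  haveI := isLocalHom_atPrime (A := A) q
  let R := Localization.AtPrime q.asIdeal
  let S := CAt C q
  have hR : ringKrullDim R = 1 := dim_local hA hB htm ht q
  have htR : algebraMap A R t ∈ maximalIdeal R := map_nonunit _ t htm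
  have hinj : Function.Injective (algebraMap B C) := (injective_iff_map_eq_zero _).2 fun z hz => by
    obtain ⟨m, hm⟩ := hB.finExt.2.2
    obtain ⟨x, hx⟩ := hm (t ^ m) (Ideal.pow_mem_pow htm m) z
    have hx0 : algebraMap A C x = 0 := by
      rw [IsScalarTower.algebraMap_apply A B C, hx, Algebra.smul_def, map_mul]
      exact mul_eq_zero_of_right _ hz
    rw [(map_eq_zero_iff _ hC.finExt.1).1 hx0, map_zero] at hx
    exact hB.regular _ (pow_mem ht m) (hx.symm.trans (smul_zero _).symm)
  have hreg : IsSMulRegular S (algebraMap A R t) := by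
    intro x y e
    simp only at e
    obtain ⟨⟨c, s⟩, hc⟩ := IsLocalization.surj (Algebra.algebraMapSubmonoid C q.asIdeal.primeCompl) (x - y)
    have he : algebraMap C S (t • c) = 0 := by
      have hAS : algebraMap R S (algebraMap A R t) = algebraMap C S (algebraMap A C t) := by
        rw [IsScalarTower.algebraMap_apply A B R, ← IsScalarTower.algebraMap_apply B R S,
          IsScalarTower.algebraMap_apply B C S, ← IsScalarTower.algebraMap_apply A B C]
      rw [Algebra.smul_def, map_mul, ← hAS, ← hc, ← mul_assoc, ← Algebra.smul_def, smul_sub, e, sub_self,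
        zero_mul]
    obtain ⟨⟨u, hu⟩, hu0⟩ :=
      (IsLocalization.map_eq_zero_iff (Algebra.algebraMapSubmonoid C q.asIdeal.primeCompl) S _).1 he
    rw [mul_smul_comm] at hu0
    have h0 : u * c = 0 := hC.regular t ht (hu0.trans (smul_zero _).symm)
    have : (x - y) * algebraMap C S s = 0 := by
      rw [hc]
      exact (IsLocalization.map_eq_zero_iff (Algebra.algebraMapSubmonoid C q.asIdeal.primeCompl) S _).2
        ⟨⟨u, hu⟩, h0⟩
    exact sub_eq_zero.1 ((IsLocalization.map_units S s).mul_left_eq_zero.1 this)
  refine ext_of_regular hR ⟨localizationAlgebra_injective (M := q.asIdeal.primeCompl) R S hinj,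
    inferInstance, ?_⟩ htR hreg
  obtain ⟨n, hn⟩ := hC.finExt.2.2
  obtain ⟨N, hN⟩ := exists_pow_le_span hR (regular_localization hB q (pow_mem ht n))
  refine ⟨N, fun r hr x => ?_⟩
  obtain ⟨r, rfl⟩ := Ideal.mem_span_singleton'.1 (hN hr)
  obtain ⟨c, ⟨_, s, hs, rfl⟩, rfl⟩ :=
    IsLocalization.exists_mk'_eq (Algebra.algebraMapSubmonoid C q.asIdeal.primeCompl) x
  obtain ⟨y, hy⟩ := hn (t ^ n) (Ideal.pow_mem_pow htm n) c
  refine ⟨r * IsLocalization.mk' R (algebraMap A B y) ⟨s, hs⟩, ?_⟩
  rw [map_mul, Algebra.smul_def, map_mul, mul_assoc]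
  congr 1
  rw [IsLocalization.algebraMap_mk' C R S, ← IsScalarTower.algebraMap_apply A B C, hy, Algebra.smul_def,
    ← IsLocalization.mul_mk'_eq_mk'_of_mul]
  congr 1
  rw [IsScalarTower.algebraMap_apply A B R, ← IsScalarTower.algebraMap_apply B R S,
    IsScalarTower.algebraMap_apply B C S, ← IsScalarTower.algebraMap_apply A B C]

/-- The maximal ideals of `CAt C q`. -/
theorem atComap [Module.Finite B C] (q : MaximalSpectrum B) (P' : MaximalSpectrum (CAt C q)) :
    (P'.asIdeal.comap (algebraMap C (CAt C q))).IsMaximal ∧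
      q.asIdeal = (P'.asIdeal.comap (algebraMap C (CAt C q))).comap (algebraMap B C) := by
  have h : (below (Localization.AtPrime q.asIdeal) P').asIdeal = maximalIdeal _ :=
    eq_maximalIdeal (below (Localization.AtPrime q.asIdeal) P').isMaximal
  have hq : q.asIdeal = (P'.asIdeal.comap (algebraMap C (CAt C q))).comap (algebraMap B C) := by
    rw [Ideal.comap_comap, ← IsScalarTower.algebraMap_eq,
      IsScalarTower.algebraMap_eq B (Localization.AtPrime q.asIdeal) (CAt C q), ← Ideal.comap_comap]
    show q.asIdeal = (below (Localization.AtPrime q.asIdeal) P').asIdeal.comap _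
    rw [h]
    exact (IsLocalization.AtPrime.under_maximalIdeal (Localization.AtPrime q.asIdeal) q.asIdeal).symm
  haveI := P'.isMaximal
  refine ⟨?_, hq⟩
  refine Ideal.isMaximal_of_isIntegral_of_isMaximal_comap (R := B) _ ?_
  rw [← hq]
  exact q.isMaximal

/-- The bijection with the fibre. -/
noncomputable def atEquiv [Module.Finite B C] (q : MaximalSpectrum B) :
    MaximalSpectrum (CAt C q) ≃ {P : MaximalSpectrum C // below B P = q} :=
  Equiv.ofBijective
    (fun P' => ⟨⟨_, (atComap q P').1⟩, MaximalSpectrum.ext (atComap q P').2.symm⟩)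
    ⟨fun P P' e => by
      have e' : P.asIdeal.comap (algebraMap C (CAt C q)) = P'.asIdeal.comap (algebraMap C (CAt C q)) :=
        congrArg MaximalSpectrum.asIdeal (congrArg Subtype.val e)
      apply MaximalSpectrum.ext
      rw [← IsLocalization.map_comap (Algebra.algebraMapSubmonoid C q.asIdeal.primeCompl) (CAt C q) P.asIdeal,
        ← IsLocalization.map_comap (Algebra.algebraMapSubmonoid C q.asIdeal.primeCompl) (CAt C q) P'.asIdeal]
      exact congrArg (Ideal.map _) e',
    fun ⟨P, hP⟩ => by
      have hd : Disjoint (Algebra.algebraMapSubmonoid C q.asIdeal.primeCompl : Set C) P.asIdeal := by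
        rw [Set.disjoint_left]
        rintro _ ⟨s, hs, rfl⟩ hsP
        exact hs (show s ∈ q.asIdeal from hP ▸ (hsP : s ∈ (below B P).asIdeal))
      haveI := P.isMaximal
      have hprime := IsLocalization.isPrime_of_isPrime_disjoint _ (CAt C q) P.asIdeal inferInstance hd
      have hcomap := IsLocalization.comap_map_of_isPrime_disjoint _ (CAt C q) (I := P.asIdeal) inferInstance hd
      have hmax : (P.asIdeal.map (algebraMap C (CAt C q))).IsMaximal := by
        refine Ideal.isMaximal_of_isIntegral_of_isMaximal_comap (R := Localization.AtPrime q.asIdeal) _ ?_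
        haveI := hprime
        have : (P.asIdeal.map (algebraMap C (CAt C q))).comap
            (algebraMap (Localization.AtPrime q.asIdeal) (CAt C q)) = maximalIdeal _ := by
          refine le_antisymm (le_maximalIdeal (Ideal.IsPrime.comap _).ne_top) ?_
          rw [← IsLocalization.AtPrime.map_eq_maximalIdeal q.asIdeal (Localization.AtPrime q.asIdeal),
            Ideal.map_le_iff_le_comap, Ideal.comap_comap, ← IsScalarTower.algebraMap_eq,
            IsScalarTower.algebraMap_eq B C (CAt C q), ← Ideal.comap_comap]
          simp only [Ideal.under] at hcomap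
          rw [hcomap]
          exact (congrArg MaximalSpectrum.asIdeal hP).ge
        rw [this]
        exact maximalIdeal.isMaximal _
      exact ⟨⟨_, hmax⟩, Subtype.ext (MaximalSpectrum.ext hcomap)⟩⟩

/-- The symbol of `A` is the product of the norms of the symbols at `B`. -/
theorem symbol_trans (hA : ringKrullDim A = 1) (hB : Ext A B)
    [hloc : ∀ q : MaximalSpectrum B, IsLocalHom (algebraMap A (Localization.AtPrime q.asIdeal))]
    (hC : Ext A C) {t : A} (htm : t ∈ maximalIdeal A) (ht : t ∈ nonZeroDivisors A)
    {a b : A} (ha : a ∈ nonZeroDivisors A) (hb : b ∈ nonZeroDivisors A) (hf : FacAll C ![a, b]) :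
    CycAlg.tameSymbol A a b = ∏ᶠ q : MaximalSpectrum B, Algebra.norm (ResidueField A)
      (CycAlg.tameSymbol (Localization.AtPrime q.asIdeal) (algebraMap A (Localization.AtPrime q.asIdeal) a)
        (algebraMap A (Localization.AtPrime q.asIdeal) b)) := by
  classical
  haveI : Module.Finite B C := finite_BC hC
  haveI : IsNoetherianRing B := isNoetherianRing_of_finite (A := A)
  haveI : Finite (MaximalSpectrum B) := finite_maximalSpectrum (A := A)
  haveI : Finite (MaximalSpectrum C) := finite_maximalSpectrum (A := A)
  cases nonempty_fintype (MaximalSpectrum B)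
  cases nonempty_fintype (MaximalSpectrum C)
  rw [tameSymbol_eq_val hA ha hb C hC hf, val, finprod_eq_prod_of_fintype, finprod_eq_prod_of_fintype,
    ← Finset.prod_fiberwise Finset.univ (below B)]
  refine Finset.prod_congr rfl fun q _ => ?_
  let R := Localization.AtPrime q.asIdeal
  let S := CAt C q
  haveI : Finite (MaximalSpectrum S) := finite_maximalSpectrum (A := R)
  cases nonempty_fintype (MaximalSpectrum S)
  -- the iso of local rings at `P'`
  have tower : ∀ x : A, algebraMap C S (algebraMap A C x) = algebraMap R S (algebraMap A R x) := fun x => by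
    rw [IsScalarTower.algebraMap_apply A B R, ← IsScalarTower.algebraMap_apply B R S,
      IsScalarTower.algebraMap_apply B C S, ← IsScalarTower.algebraMap_apply A B C]
  let e : ∀ P' : MaximalSpectrum S,
      Localization.AtPrime (P'.asIdeal.comap (algebraMap C S)) ≃+* Localization.AtPrime P'.asIdeal :=
    fun P' => (IsLocalization.localizationLocalizationAtPrimeIsoLocalization
      (Algebra.algebraMapSubmonoid C q.asIdeal.primeCompl) P'.asIdeal).toRingEquiv
  have he : ∀ (P' : MaximalSpectrum S) (x : A), e P' (algebraMap A _ x) =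
      algebraMap R (Localization.AtPrime P'.asIdeal) (algebraMap A R x) := fun P' x => by
    rw [IsScalarTower.algebraMap_apply A C (Localization.AtPrime (P'.asIdeal.comap (algebraMap C S))),
      IsScalarTower.algebraMap_apply R S (Localization.AtPrime P'.asIdeal), ← tower,
      ← IsScalarTower.algebraMap_apply C S (Localization.AtPrime P'.asIdeal)]
    exact AlgEquiv.commutes (IsLocalization.localizationLocalizationAtPrimeIsoLocalization
      (Algebra.algebraMapSubmonoid C q.asIdeal.primeCompl) P'.asIdeal) _
  have hfac : ∀ P' : MaximalSpectrum S, Fac (Localization.AtPrime (P'.asIdeal.comap (algebraMap C S)))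
      ![algebraMap A _ a, algebraMap A _ b] := fun P' => by
    haveI := (atComap q P').1
    obtain ⟨π, hπ, h⟩ := hf ⟨_, (atComap q P').1⟩
    exact ⟨π, hπ, Fin.forall_fin_two.2 ⟨h 0, h 1⟩⟩
  have hfS : FacAll S ![algebraMap A R a, algebraMap A R b] := fun P' => by
    obtain ⟨π, hπ, w, z, i, j, hw, hz⟩ := (hfac P').pair
    refine ⟨e P' π, ?_, Fin.forall_fin_two.2 ⟨⟨Units.map (e P' : _ →* _) w, i, ?_⟩,
      ⟨Units.map (e P' : _ →* _) z, j, ?_⟩⟩⟩
    · rw [mem_nonZeroDivisors_iff_right]
      intro x hx
      have hx' : (e P').symm x * π = 0 := (e P').injective (by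
        rw [map_mul, RingEquiv.apply_symm_apply, hx, map_zero])
      rw [← (e P').apply_symm_apply x, (mul_right_mem_nonZeroDivisors_eq_zero_iff hπ).1 hx', map_zero]
    · show algebraMap R _ (algebraMap A R a) = _
      rw [← he, hw, map_mul, map_pow]; rfl
    · show algebraMap R _ (algebraMap A R b) = _
      rw [← he, hz, map_mul, map_pow]; rfl
  rw [tameSymbol_eq_val (dim_local hA hB htm ht q) (regular_localization hB q ha) (regular_localization hB q hb)
    S (ext_local hA hB hC htm ht q) hfS, val, finprod_eq_prod_of_fintype, map_prod]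
  refine (Finset.prod_bij' (fun P' _ => (atEquiv q P').1)
    (fun P hP => (atEquiv q).symm ⟨P, (Finset.mem_filter.1 hP).2⟩)
    (fun P' _ => Finset.mem_filter.2 ⟨Finset.mem_univ _, (atEquiv q P').2⟩) (fun P hP => Finset.mem_univ _)
    (fun P' _ => (atEquiv q).symm_apply_apply P')
    (fun P hP => by simp) fun P' _ => ?_).symm
  let P : MaximalSpectrum C := (atEquiv q P').1
  haveI := isLocalHom_atPrime (A := R) P'
  haveI := finite_residue (A := R) P'
  haveI := finite_residue (A := A) q
  haveI : IsLocalHom (algebraMap A (Localization.AtPrime P.asIdeal)) := isLocalHom_atPrime (A := A) P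
  haveI := (atComap q P').1
  letI : Algebra (ResidueField A) (ResidueField (Localization.AtPrime P'.asIdeal)) :=
    ((algebraMap (ResidueField R) (ResidueField (Localization.AtPrime P'.asIdeal))).comp
      (algebraMap (ResidueField A) (ResidueField R))).toAlgebra
  haveI : IsScalarTower (ResidueField A) (ResidueField R) (ResidueField (Localization.AtPrime P'.asIdeal)) :=
    IsScalarTower.of_algebraMap_eq fun _ => rfl
  rw [Algebra.norm_norm]
  rw [← he, ← he, tame_map_equiv (e P') (hfac P')]
  rw [Algebra.norm_eq_of_equiv_equiv (RingEquiv.refl (ResidueField A)) (ResidueField.mapEquiv (e P')).symm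
    (B₂ := ResidueField (Localization.AtPrime P.asIdeal)) ?_]
  · exact congrArg (Algebra.norm (ResidueField A)) ((ResidueField.mapEquiv (e P')).symm_apply_apply _)
  · refine RingHom.ext fun x => ?_
    obtain ⟨x, rfl⟩ := residue_surjective x
    show residue _ (algebraMap A _ x) = (ResidueField.mapEquiv (e P')).symm (residue _ (algebraMap R _ (algebraMap A R x)))
    rw [← he, show residue _ (e P' (algebraMap A _ x)) = ResidueField.mapEquiv (e P') (residue _ (algebraMap A _ x)) from rfl,
      RingEquiv.symm_apply_apply]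

end Localize

theorem symbol_trans' (hA : ringKrullDim A = 1) (B : Type u) [CommRing B] [Algebra A B]
    (hB : CycAlg.IsFinExt A B (maximalIdeal A)) (hass : maximalIdeal A ∉ associatedPrimes A B)
    [hloc : ∀ q : MaximalSpectrum B, IsLocalHom (algebraMap A (Localization.AtPrime q.asIdeal))]
    (a b : A) (ha : a ∈ nonZeroDivisors A) (hb : b ∈ nonZeroDivisors A) :
    CycAlg.tameSymbol A a b = ∏ᶠ q : MaximalSpectrum B, Algebra.norm (ResidueField A)
      (CycAlg.tameSymbol (Localization.AtPrime q.asIdeal) (algebraMap A (Localization.AtPrime q.asIdeal) a)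
        (algebraMap A (Localization.AtPrime q.asIdeal) b)) := by
  haveI := hB.2.1
  haveI : IsNoetherianRing B := isNoetherianRing_of_finite (A := A)
  by_cases hu : IsUnit a ∧ IsUnit b
  · rw [symbol_units hu.1 hu.2, eq_comm]
    refine finprod_eq_one_of_forall_eq_one fun q => ?_
    rw [symbol_units (hu.1.map _) (hu.2.map _), map_one]
  obtain ⟨t, htm, ht⟩ : ∃ t ∈ maximalIdeal A, t ∈ nonZeroDivisors A := by
    rcases not_and_or.1 hu with h | h
    · exact ⟨a, (mem_maximalIdeal a).2 h, ha⟩
    · exact ⟨b, (mem_maximalIdeal b).2 h, hb⟩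
  have hB' := ext_of_not_mem_ass hA hB hass
  obtain ⟨E, _, _, _, _, _, hE, hf⟩ := exists_refinement hA B hB' ha hb htm ht
  exact symbol_trans hA hB' hE htm ht ha hb hf

end Groth.Agent.TameAlg50
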