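import Groth.Agent.TameAlg50.Coord
import Groth.Agent.TameAlg50.Trans
import Mathlib.RingTheory.Flat.FaithfullyFlat.Algebra

/-! The tame symbol under a flat local base change. -/

set_option autoImplicit false
set_option linter.unusedSectionVars false
set_option linter.style.haveILetI false

universe u

namespace Groth.Agent.TameAlg50

open IsLocalRing
open scoped TensorProduct

/-- A regular element stays regular in a flat algebra. -/
theorem isSMulRegular_of_flat {R S : Type u} [CommRing R] [CommRing S] [Algebra R S] [Module.Flat R S]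
    {r : R} (hr : ∀ x : R, r * x = 0 → x = 0) : ∀ s : S, algebraMap R S r * s = 0 → s = 0 := by
  intro s hs
  have hinj : Function.Injective (LinearMap.lsmul R R r) := (injective_iff_map_eq_zero _).2 fun x hx => hr x hx
  have h := Module.Flat.lTensor_preserves_injective_linearMap (M := S) _ hinj
  have e : (LinearMap.lsmul R R r).lTensor S (s ⊗ₜ 1) = 0 := by
    rw [LinearMap.lTensor_tmul, LinearMap.lsmul_apply, smul_eq_mul, mul_one,
      show (r : R) = r • (1 : R) by simp, ← TensorProduct.smul_tmul, Algebra.smul_def, hs, TensorProduct.zero_tmul]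
  have h0 : s ⊗ₜ[R] (1 : R) = 0 := h (e.trans (map_zero _).symm)
  simpa using congrArg (TensorProduct.rid R S) h0

section FlatLength

variable {B C : Type u} [CommRing B] [CommRing C] [Algebra B C] [Module.Flat B C] [IsNoetherianRing B]

theorem locLen_tensor (q : MaximalSpectrum B) (P : MaximalSpectrum C)
    (h : q.asIdeal = P.asIdeal.comap (algebraMap B C)) (M : Type u) [AddCommGroup M] [Module B M]
    [Module.Finite B M] : (∀ p ∈ Module.support B M, p.asIdeal.IsMaximal) →
    Len90.locLen P.asIdeal (C ⊗[B] M) =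
      Len90.locLen q.asIdeal M * Len90.locLen P.asIdeal (C ⧸ q.asIdeal.map (algebraMap B C)) := by
  induction ‹Module.Finite B M› using IsNoetherianRing.induction_on_isQuotientEquivQuotientPrime B with
  | subsingleton N =>
    intro _
    rw [locLen_zero_of_smul q N (c := 1) (fun h => q.isMaximal.ne_top ((Ideal.eq_top_iff_one _).2 h))
      fun x => Subsingleton.elim _ _, zero_mul]
    exact locLen_zero_of_smul P _ (c := 1) (fun h => P.isMaximal.ne_top ((Ideal.eq_top_iff_one _).2 h))
      fun x => Subsingleton.elim _ _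
  | quotient N p e =>
    intro hsupp
    have hp : p.asIdeal.IsMaximal := hsupp p <| by
      rw [e.support_eq, Module.mem_support_iff_of_finite, Ideal.annihilator_quotient]
    rw [Len90.locLen_congr P.asIdeal ((TensorProduct.AlgebraTensorModule.congr (LinearEquiv.refl C C) e).trans
      (Algebra.TensorProduct.quotIdealMapEquivTensorQuot C p.asIdeal).symm.toLinearEquiv),
      Len90.locLen_congr q.asIdeal e]
    by_cases hpq : p.asIdeal = q.asIdeal
    · rw [hpq, Len90.locLen_quot_self q.asIdeal, one_mul]
    · obtain ⟨c, hc, hcq⟩ := SetLike.not_le_iff_exists.1 fun hle => hpq (hp.eq_of_le q.isMaximal.ne_top hle)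
      rw [Len90.locLen_quot_of_not_le _ _ fun hle => hcq (hle hc), zero_mul]
      refine locLen_zero_of_smul P _ (c := algebraMap B C c) (fun hh => hcq (h.symm.le (Ideal.mem_comap.2 hh))) fun x => ?_
      obtain ⟨x, rfl⟩ := Ideal.Quotient.mk_surjective x
      rw [Algebra.smul_def, Ideal.Quotient.algebraMap_eq, ← map_mul, Ideal.Quotient.eq_zero_iff_mem]
      exact Ideal.mul_mem_right _ _ (Ideal.mem_map_of_mem _ hc)
  | exact N₁ N₂ N₃ f g hf hg hfg h1 h3 =>
    intro hsupp
    rw [Module.support_of_exact hfg hf hg] at hsupp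
    let f' : C ⊗[B] N₁ →ₗ[C] C ⊗[B] N₂ := TensorProduct.AlgebraTensorModule.map LinearMap.id f
    let g' : C ⊗[B] N₂ →ₗ[C] C ⊗[B] N₃ := TensorProduct.AlgebraTensorModule.map LinearMap.id g
    have ef : (f' : C ⊗[B] N₁ → C ⊗[B] N₂) = f.lTensor C := rfl
    have eg : (g' : C ⊗[B] N₂ → C ⊗[B] N₃) = g.lTensor C := rfl
    rw [Len90.locLen_exact q.asIdeal f g hf hg hfg, add_mul, ← h1 fun p hp => hsupp p (Or.inl hp),
      ← h3 fun p hp => hsupp p (Or.inr hp)]
    refine Len90.locLen_exact P.asIdeal f' g' ?_ ?_ ?_
    · rw [ef]; exact Module.Flat.lTensor_preserves_injective_linearMap _ hf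
    · rw [eg]; exact LinearMap.lTensor_surjective _ hg
    · rw [ef, eg]; exact lTensor_exact C hfg hg

theorem ord_flat (q : MaximalSpectrum B) (P : MaximalSpectrum C)
    (h : q.asIdeal = P.asIdeal.comap (algebraMap B C)) (a : B)
    (hmax : ∀ p ∈ Module.support B (B ⧸ Ideal.span {a}), p.asIdeal.IsMaximal) :
    ordN (Localization.AtPrime P.asIdeal) (algebraMap C (Localization.AtPrime P.asIdeal) (algebraMap B C a)) =
      ordN (Localization.AtPrime q.asIdeal) (algebraMap B (Localization.AtPrime q.asIdeal) a) *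
        (Len90.locLen P.asIdeal (C ⧸ q.asIdeal.map (algebraMap B C))).toNat := by
  rw [ordN, ordN, ord_localization, ord_localization, ← ENat.toNat_mul]
  congr 1
  rw [← locLen_tensor q P h _ hmax,
    Len90.locLen_congr P.asIdeal (Algebra.TensorProduct.quotIdealMapEquivTensorQuot C (Ideal.span {a})).symm.toLinearEquiv,
    Ideal.map_span, Set.image_singleton]

end FlatLength

section Main

variable {A A' B C : Type u} [CommRing A] [CommRing A'] [CommRing B] [CommRing C]
  [IsNoetherianRing A] [IsNoetherianRing A'] [IsLocalRing A] [IsLocalRing A']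
  [Algebra A A'] [IsLocalHom (algebraMap A A')] [Algebra A B] [Algebra A' C] [Algebra B C] [Algebra A C]
  [IsScalarTower A A' C] [IsScalarTower A B C] [hpo : Algebra.IsPushout A A' B C] [Module.Finite A B]
  [Module.Flat A A']

theorem regular_image {t : A} (ht : t ∈ nonZeroDivisors A) : algebraMap A A' t ∈ nonZeroDivisors A' :=
  mem_nonZeroDivisors_iff_right.2 fun x hx => isSMulRegular_of_flat (R := A)
    (fun y hy => (mul_left_mem_nonZeroDivisors_eq_zero_iff ht).1 hy) x (by rw [mul_comm]; exact hx)

include A A' hpo in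
theorem ext_baseChange (hA' : ringKrullDim A' = 1) (hB : Ext A B) {t : A} (htm : t ∈ maximalIdeal A)
    (ht : t ∈ nonZeroDivisors A) : Ext A' C := by
  haveI : Module.Finite A' C := finite_pushout (A := A) (B := B)
  haveI : Module.Flat B C := flat_pushout (A := A) (A' := A')
  have ht' := regular_image (A' := A') ht
  have htm' : algebraMap A A' t ∈ maximalIdeal A' := map_nonunit _ t htm
  refine ext_of_regular hA' ⟨?_, inferInstance, ?_⟩ htm' ?_
  · let e := Algebra.IsPushout.equiv A A' B C
    have hi : Function.Injective (Algebra.TensorProduct.includeLeft : A' →ₐ[A'] A' ⊗[A] B) :=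
      Algebra.TensorProduct.includeLeft_injective hB.finExt.1
    have : (algebraMap A' C : A' → C) = e ∘ (Algebra.TensorProduct.includeLeft : A' →ₐ[A'] A' ⊗[A] B) := by
      funext x
      exact (e.commutes x).symm
    rw [this]
    exact e.injective.comp hi
  · obtain ⟨n, hn⟩ := hB.finExt.2.2
    obtain ⟨N, hN⟩ := exists_pow_le_span hA' (pow_mem ht' n)
    refine ⟨N, fun r hr x => ?_⟩
    obtain ⟨s, rfl⟩ := Ideal.mem_span_singleton'.1 (hN hr)
    suffices h : (algebraMap A A' t ^ n) • x ∈ (algebraMap A' C).range by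
      obtain ⟨y, hy⟩ := h
      exact ⟨s * y, by rw [map_mul, hy, mul_smul, Algebra.smul_def s]⟩
    induction x using (hpo.out).inductionOn with
    | zero => rw [smul_zero]; exact zero_mem _
    | tmul b =>
      obtain ⟨y, hy⟩ := hn (t ^ n) (Ideal.pow_mem_pow htm n) b
      refine ⟨algebraMap A A' y, ?_⟩
      show _ = _ • algebraMap B C b
      rw [← IsScalarTower.algebraMap_apply, IsScalarTower.algebraMap_apply A B C, hy, ← map_pow, algebraMap_smul,
        Algebra.smul_def, Algebra.smul_def, map_mul, ← IsScalarTower.algebraMap_apply]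
    | smul c x hx =>
      obtain ⟨y, hy⟩ := hx
      exact ⟨c * y, by rw [map_mul, hy, ← Algebra.smul_def, smul_comm]⟩
    | add x y hx hy => rw [smul_add]; exact add_mem hx hy
  · intro x y e
    simp only [Algebra.smul_def, ← IsScalarTower.algebraMap_apply A A' C, IsScalarTower.algebraMap_apply A B C] at e
    rw [← sub_eq_zero, ← mul_sub] at e
    refine sub_eq_zero.1 (isSMulRegular_of_flat (R := B) (fun z hz => ?_) _ e)
    exact hB.regular t ht (by simpa [Algebra.smul_def] using hz)

include A A' hpo in
theorem exists_below (P : MaximalSpectrum C) : ∃ q : MaximalSpectrum B, q.asIdeal = P.asIdeal.comap (algebraMap B C) := by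
  haveI : Module.Finite A' C := finite_pushout (A := A) (B := B)
  haveI := P.isMaximal
  refine ⟨⟨_, Ideal.isMaximal_of_isIntegral_of_isMaximal_comap (R := A) (P.asIdeal.comap (algebraMap B C)) ?_⟩, rfl⟩
  have h : (P.asIdeal.comap (algebraMap B C)).comap (algebraMap A B) = maximalIdeal A := by
    rw [Ideal.comap_comap, ← IsScalarTower.algebraMap_eq, IsScalarTower.algebraMap_eq A A' C, ← Ideal.comap_comap]
    show (below A' P).asIdeal.comap _ = _
    rw [eq_maximalIdeal (below A' P).isMaximal]
    exact le_antisymm (le_maximalIdeal (Ideal.IsPrime.comap _).ne_top) fun x hx => map_nonunit _ x hx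
  rw [h]
  exact maximalIdeal.isMaximal A

include hpo in
theorem val_baseChange (hA : ringKrullDim A = 1) (hA' : ringKrullDim A' = 1) (hB : Ext A B) {t : A}
    (htm : t ∈ maximalIdeal A) (ht : t ∈ nonZeroDivisors A) {a b : A}
    (ha : a ∈ nonZeroDivisors A) (hb : b ∈ nonZeroDivisors A) (hf : FacAll B ![a, b]) :
    ResidueField.map (algebraMap A A') (CycAlg.tameSymbol A a b) ^
        (Module.length A' (A' ⧸ ext0 A A')).toNat =
      CycAlg.tameSymbol A' (algebraMap A A' a) (algebraMap A A' b) := by
  classical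
  haveI : Module.Finite A' C := finite_pushout (A := A) (B := B)
  haveI : Module.Flat B C := flat_pushout (A := A) (A' := A')
  haveI : IsNoetherianRing B := isNoetherianRing_of_finite (A := A)
  haveI : IsNoetherianRing C := isNoetherianRing_of_finite (A := A')
  haveI : Finite (MaximalSpectrum B) := finite_maximalSpectrum (A := A)
  haveI : Finite (MaximalSpectrum C) := finite_maximalSpectrum (A := A')
  cases nonempty_fintype (MaximalSpectrum B)
  cases nonempty_fintype (MaximalSpectrum C)
  haveI := fun P : MaximalSpectrum C => isLocalHom_atPrime (A := A') P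
  haveI := fun q : MaximalSpectrum B => isLocalHom_atPrime (A := A) q
  have hC : Ext A' C := ext_baseChange hA' hB htm ht
  have ha' := regular_image (A' := A') ha
  have hb' := regular_image (A' := A') hb
  choose bel hbel using exists_below (A := A) (A' := A') (B := B) (C := C)
  -- the local map
  have hg : ∀ (P : MaximalSpectrum C) (x : A), locMap (bel P) P (hbel P) (algebraMap A _ x) =
      algebraMap A' (Localization.AtPrime P.asIdeal) (algebraMap A A' x) := fun P x => by
    rw [IsScalarTower.algebraMap_apply A B (Localization.AtPrime (bel P).asIdeal), Localization.localRingHom_to_map,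
      ← IsScalarTower.algebraMap_apply A B C, IsScalarTower.algebraMap_apply A A' C,
      ← IsScalarTower.algebraMap_apply A' C]
  have hfin0 : ∀ p : Ideal A', p.IsPrime → ext0 A A' ≤ p → p.IsMaximal := by
    intro p hp hle
    obtain ⟨n, hn⟩ := exists_pow_le_span hA' (regular_image (A' := A') ht)
    have : maximalIdeal A' ≤ p := hp.le_of_pow_le (hn.trans ((Ideal.span_singleton_le_iff_mem _).2
      (hle (Ideal.mem_map_of_mem _ htm))))
    rw [← (maximalIdeal.isMaximal A').eq_of_le hp.ne_top this]
    exact maximalIdeal.isMaximal A'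
  set m := (Module.length A' (A' ⧸ ext0 A A')).toNat with hm
  -- factorizations over `C`
  have hgnzd : ∀ (P : MaximalSpectrum C) {π : Localization.AtPrime (bel P).asIdeal}
      {w : (Localization.AtPrime (bel P).asIdeal)ˣ} {e : ℕ} {c : A}, c ∈ nonZeroDivisors A → e ≠ 0 →
      algebraMap A (Localization.AtPrime (bel P).asIdeal) c = (w : Localization.AtPrime (bel P).asIdeal) * π ^ e →
      locMap (bel P) P (hbel P) π ∈ nonZeroDivisors (Localization.AtPrime P.asIdeal) := by
    intro P π w e c hc he hce
    have h2 := regular_localization hC P (regular_image (A' := A') hc)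
    rw [← hg P, hce, map_mul, map_pow] at h2
    obtain ⟨k, rfl⟩ := Nat.exists_eq_succ_of_ne_zero he
    rw [pow_succ'] at h2
    exact (mul_mem_nonZeroDivisors.1 (mul_mem_nonZeroDivisors.1 h2).2).1
  have hfacC : FacAll C ![algebraMap A A' a, algebraMap A A' b] := by
    intro P
    obtain ⟨π, hπ, h⟩ := hf (bel P)
    obtain ⟨w, e, he⟩ := h 0
    obtain ⟨z, f, hf'⟩ := h 1
    let g := locMap (bel P) P (hbel P)
    by_cases h0 : e = 0 ∧ f = 0
    · obtain ⟨rfl, rfl⟩ := h0
      refine ⟨1, one_mem _, Fin.forall_fin_two.2 ⟨⟨Units.map (g : _ →* _) w, 0, ?_⟩, ⟨Units.map (g : _ →* _) z, 0, ?_⟩⟩⟩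
      · show algebraMap A' _ (algebraMap A A' a) = _
        rw [← hg P, show algebraMap A _ a = _ from he]; simp [g]
      · show algebraMap A' _ (algebraMap A A' b) = _
        rw [← hg P, show algebraMap A _ b = _ from hf']; simp [g]
    refine ⟨g π, ?_, Fin.forall_fin_two.2 ⟨⟨Units.map (g : _ →* _) w, e, ?_⟩, ⟨Units.map (g : _ →* _) z, f, ?_⟩⟩⟩
    · rcases not_and_or.1 h0 with h0 | h0
      exacts [hgnzd P ha h0 he, hgnzd P hb h0 hf']
    · show algebraMap A' _ (algebraMap A A' a) = _
      rw [← hg P, show algebraMap A _ a = _ from he, map_mul, map_pow]; rfl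
    · show algebraMap A' _ (algebraMap A A' b) = _
      rw [← hg P, show algebraMap A _ b = _ from hf', map_mul, map_pow]; rfl
  rw [tameSymbol_eq_val hA ha hb B hB hf, tameSymbol_eq_val hA' ha' hb' C hC hfacC, val, val,
    finprod_eq_prod_of_fintype, finprod_eq_prod_of_fintype, map_prod, ← Finset.prod_pow,
    ← Finset.prod_fiberwise Finset.univ bel]
  refine Finset.prod_congr rfl fun q _ => ?_
  let Bq := Localization.AtPrime q.asIdeal
  obtain ⟨π, hπ, h⟩ := hf q
  obtain ⟨w, e, hae⟩ := h 0
  obtain ⟨z, f, hbf⟩ := h 1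
  replace hae : algebraMap A Bq a = (w : Bq) * π ^ e := hae
  replace hbf : algebraMap A Bq b = (z : Bq) * π ^ f := hbf
  by_cases h0 : e = 0 ∧ f = 0
  · obtain ⟨rfl, rfl⟩ := h0
    rw [pow_zero, mul_one] at hae hbf
    rw [tame_map_units (hae ▸ w.isUnit) (hbf ▸ z.isUnit), map_one, map_one, one_pow]
    refine (Finset.prod_eq_one fun P hP => ?_).symm
    obtain rfl := (Finset.mem_filter.1 hP).2
    rw [← hg P, ← hg P, hae, hbf, tame_map_units (w.isUnit.map _) (z.isUnit.map _), map_one]
  -- a representative of the local symbol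
  obtain ⟨X, hX⟩ : ∃ X : Bq, residue Bq X =
      (-1) ^ (e * f) * residue Bq (w : Bq) ^ f * (residue Bq (z : Bq) ^ e)⁻¹ := residue_surjective _
  obtain ⟨y, hy⟩ : ∃ y : B, residue Bq (algebraMap B Bq y) = residue Bq X := by
    haveI := q.isMaximal
    exact (q.asIdeal.bijective_algebraMap_quotient_residueField.surjective.comp Ideal.Quotient.mk_surjective)
      (residue Bq X)
  have htq : tame Bq (algebraMap A Bq a) (algebraMap A Bq b) =
      residue Bq (algebraMap B Bq y) ^ ordN Bq π := by
    rw [hy, hX, hae, hbf, tame_fac hπ]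
  let J := fibId A' C q (maximalIdeal A')
  have hJ : maximalIdeal A' ≤ J.comap (algebraMap A' C) :=
    fun x hx => Ideal.mem_sup_right (Ideal.mem_map_of_mem _ hx)
  have hlam : ∀ P : MaximalSpectrum C, bel P = q →
      (Len90.locLen P.asIdeal (C ⧸ q.asIdeal.map (algebraMap B C))).toNat =
        m * (Len90.locLen P.asIdeal (C ⧸ J)).toNat := by
    intro P _
    have hle : q.asIdeal.map (algebraMap B C) = fibId A' C q (ext0 A A') := by
      rw [fibId, eq_comm, sup_eq_left, Ideal.map_map, ← IsScalarTower.algebraMap_eq,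
        IsScalarTower.algebraMap_eq A B C, ← Ideal.map_map]
      exact Ideal.map_mono (Ideal.map_le_iff_le_comap.2 (maximal_le_comap (A := A) q))
    rw [hle, locLen_layer q P _ le_rfl hfin0, ENat.toNat_mul]
  -- orders
  have hP : ∀ P : MaximalSpectrum C, bel P = q →
      tame (Localization.AtPrime P.asIdeal) (algebraMap A' _ (algebraMap A A' a))
        (algebraMap A' _ (algebraMap A A' b)) =
      residue (Localization.AtPrime P.asIdeal) (algebraMap C _ (algebraMap B C y)) ^
        ((Len90.locLen P.asIdeal (C ⧸ J)).toNat * (m * ordN Bq π)) := by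
    intro P hPq
    subst hPq
    let g := locMap (bel P) P (hbel P)
    let CP := Localization.AtPrime P.asIdeal
    have hgπ : g π ∈ nonZeroDivisors CP := by
      rcases not_and_or.1 h0 with h0 | h0
      exacts [hgnzd P ha h0 hae, hgnzd P hb h0 hbf]
    have hga : algebraMap A' CP (algebraMap A A' a) = (Units.map (g : Bq →* CP) w : CP) * g π ^ e := by
      rw [← hg P, hae, map_mul, map_pow]; rfl
    have hgb : algebraMap A' CP (algebraMap A A' b) = (Units.map (g : Bq →* CP) z : CP) * g π ^ f := by
      rw [← hg P, hbf, map_mul, map_pow]; rfl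
    have hord : ∀ (c : A) (u : (Bq)ˣ) (k : ℕ), c ∈ nonZeroDivisors A → k ≠ 0 →
        algebraMap A Bq c = (u : Bq) * π ^ k →
        algebraMap A' CP (algebraMap A A' c) = (Units.map (g : Bq →* CP) u : CP) * g π ^ k →
        ordN CP (g π) = (Len90.locLen P.asIdeal (C ⧸ J)).toNat * (m * ordN Bq π) := by
      intro c u k hc hk hck hck'
      have hmax : ∀ p ∈ Module.support B (B ⧸ Ideal.span {algebraMap A B c}), p.asIdeal.IsMaximal := by
        obtain ⟨n, hn⟩ := exists_pow_le_span hA hc
        refine isMaximal_of_killed (A := A) (C := B) _ n fun r hr x => ?_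
        obtain ⟨s, rfl⟩ := Ideal.mem_span_singleton'.1 (hn hr)
        obtain ⟨x, rfl⟩ := Submodule.Quotient.mk_surjective _ x
        rw [← Submodule.Quotient.mk_smul, Submodule.Quotient.mk_eq_zero, Algebra.smul_def, map_mul]
        exact Ideal.mul_mem_right _ _ (Ideal.mul_mem_left _ _ (Ideal.mem_span_singleton_self _))
      have := ord_flat (bel P) P (hbel P) (algebraMap A B c) hmax
      rw [← IsScalarTower.algebraMap_apply A B C, IsScalarTower.algebraMap_apply A A' C,
        ← IsScalarTower.algebraMap_apply A' C, hck', ← IsScalarTower.algebraMap_apply A B, hck,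
        ordN_fac hgπ, ordN_fac hπ, hlam P rfl] at this
      refine Nat.eq_of_mul_eq_mul_left (Nat.pos_of_ne_zero hk) (this.trans ?_)
      ring
    have hd : ordN CP (g π) = (Len90.locLen P.asIdeal (C ⧸ J)).toNat * (m * ordN Bq π) := by
      rcases not_and_or.1 h0 with h0 | h0
      exacts [hord a w e ha h0 hae hga, hord b z f hb h0 hbf hgb]
    rw [hga, hgb, tame_fac hgπ, hd]
    congr 1
    haveI : IsLocalHom g := Localization.isLocalHom_localRingHom _ _ _ (hbel P)
    have hres : ∀ x : Bq, residue CP (g x) = ResidueField.map g (residue Bq x) := fun x => rfl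
    rw [← Localization.localRingHom_to_map (bel P).asIdeal P.asIdeal (algebraMap B C) (hbel P) y]
    simp only [Units.coe_map, MonoidHom.coe_coe]
    rw [hres, hres, hres, hy, hX]
    simp only [map_mul, map_pow, map_inv₀, map_neg, map_one]
  -- the norm over the fibre
  rw [htq, map_pow, map_pow, ← pow_mul,
    ← norm_quot_max (R := A) y q (maximal_le_comap q),
    ← norm_fibId (A := A) (A' := A') (C := C) q y hJ, norm_fibre (R := A') (algebraMap B C y) J hJ,
    ← Finset.prod_pow]
  symm
  refine (Finset.prod_congr rfl fun P hP' => ?_).trans (Finset.prod_subset (Finset.subset_univ _) ?_)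
  · rw [hP P (Finset.mem_filter.1 hP').2, map_pow, ← pow_mul, mul_comm (ordN Bq π) m]
  · intro P _ hP'
    have hne : bel P ≠ q := fun hh => hP' (Finset.mem_filter.2 ⟨Finset.mem_univ _, hh⟩)
    obtain ⟨c, hc, hcq⟩ := SetLike.not_le_iff_exists.1 fun hle : q.asIdeal ≤ (bel P).asIdeal =>
      hne (MaximalSpectrum.ext (q.isMaximal.eq_of_le (bel P).isMaximal.ne_top hle).symm)
    have hc' : algebraMap B C c ∉ P.asIdeal := fun hh => hcq ((hbel P).symm.le (Ideal.mem_comap.2 hh))
    rw [locLen_zero_of_smul P _ hc' fun x => ?_, ENat.toNat_zero, pow_zero, one_pow]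
    obtain ⟨x, rfl⟩ := Ideal.Quotient.mk_surjective x
    rw [Algebra.smul_def, Ideal.Quotient.algebraMap_eq, ← map_mul, Ideal.Quotient.eq_zero_iff_mem]
    exact Ideal.mul_mem_right _ _ (Ideal.mem_sup_left (Ideal.mem_map_of_mem _ hc))

end Main

attribute [local instance] Algebra.TensorProduct.rightAlgebra in
theorem symbol_baseChange (A A' : Type u) [CommRing A] [CommRing A'] [IsNoetherianRing A] [IsNoetherianRing A']
    [IsLocalRing A] [IsLocalRing A'] [Algebra A A'] [IsLocalHom (algebraMap A A')] [Module.Flat A A']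
    (hA : ringKrullDim A = 1) (hA' : ringKrullDim A' = 1) (a b : A)
    (ha : a ∈ nonZeroDivisors A) (hb : b ∈ nonZeroDivisors A) :
    ResidueField.map (algebraMap A A') (CycAlg.tameSymbol A a b) ^
        (Module.length A' (A' ⧸ ext0 A A')).toNat =
      CycAlg.tameSymbol A' (algebraMap A A' a) (algebraMap A A' b) := by
  by_cases hu : IsUnit a ∧ IsUnit b
  · rw [symbol_units hu.1 hu.2, symbol_units (hu.1.map _) (hu.2.map _), map_one, one_pow]
  obtain ⟨t, htm, ht⟩ : ∃ t ∈ maximalIdeal A, t ∈ nonZeroDivisors A := by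
    rcases not_and_or.1 hu with h | h
    · exact ⟨a, (mem_maximalIdeal a).2 h, ha⟩
    · exact ⟨b, (mem_maximalIdeal b).2 h, hb⟩
  obtain ⟨B, _, _, _, hB, hf⟩ := exists_ext_fac hA ![a, b] (Fin.forall_fin_two.2 ⟨ha, hb⟩)
  haveI : IsScalarTower A B (A' ⊗[A] B) := IsScalarTower.of_algebraMap_eq fun x => by
    show algebraMap A A' x ⊗ₜ[A] (1 : B) = (1 : A') ⊗ₜ[A] algebraMap A B x
    rw [Algebra.algebraMap_eq_smul_one, Algebra.algebraMap_eq_smul_one, TensorProduct.smul_tmul]
  exact val_baseChange (B := B) (C := A' ⊗[A] B) hA hA' hB htm ht ha hb hf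

end Groth.Agent.TameAlg50
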