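import Groth.Prelude.Def_Tame
import Mathlib.RingTheory.OrderOfVanishing.Basic
import Mathlib.Tactic.LinearCombination
import Mathlib.Algebra.Ring.Parity

/-! The intrinsic tame symbol of two elements of a local ring with a common factorization. -/

set_option autoImplicit false
set_option linter.unusedSectionVars false

universe u

namespace Groth.Agent.TameAlg50

open IsLocalRing

variable (R : Type u) [CommRing R] [IsLocalRing R]

/-- The order as a natural number. -/
noncomputable def ordN (x : R) : ℕ := (Ring.ord R x).toNat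

open Classical in
/-- `(-1)^(Da Db) a^Db / b^Da` in the residue field, when this is the residue of a unit. -/
noncomputable def tame (a b : R) : ResidueField R :=
  if h : ∃ Y : Rˣ, a ^ ordN R b = (Y : R) * b ^ ordN R a then
    (-1) ^ (ordN R a * ordN R b) * residue R (h.choose : R)
  else 1

/-- A common factorization. -/
def Fac {ι : Type*} (a : ι → R) : Prop :=
  ∃ π ∈ nonZeroDivisors R, ∀ i, ∃ (w : Rˣ) (e : ℕ), a i = (w : R) * π ^ e

variable {R}

theorem ord_unit (w : Rˣ) : Ring.ord R (w : R) = 0 := by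
  rw [Ring.ord, Ideal.span_singleton_eq_top.2 w.isUnit, Module.length_eq_zero_iff]
  exact Submodule.Quotient.subsingleton_iff.2 rfl

theorem ord_unit_mul (w : Rˣ) (x : R) : Ring.ord R ((w : R) * x) = Ring.ord R x := by
  rw [Ring.ord_mul' R w.isUnit.mem_nonZeroDivisors, ord_unit, zero_add]

theorem ord_pow {π : R} (hπ : π ∈ nonZeroDivisors R) (e : ℕ) :
    Ring.ord R (π ^ e) = e * Ring.ord R π := by
  induction e with
  | zero => simp
  | succ e ih => rw [pow_succ, Ring.ord_mul R hπ, ih]; push_cast; ring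

theorem ordN_fac {π : R} (hπ : π ∈ nonZeroDivisors R) (w : Rˣ) (e : ℕ) :
    ordN R ((w : R) * π ^ e) = e * ordN R π := by
  rw [ordN, ord_unit_mul, ord_pow hπ, ENat.toNat_mul]
  rfl

theorem neg_one_pow_congr {S : Type*} [CommRing S] (d e f : ℕ) :
    (-1 : S) ^ (e * d * (f * d)) = ((-1 : S) ^ (e * f)) ^ d := by
  rw [← pow_mul]
  apply neg_one_pow_congr'
  simp only [Nat.even_mul]
  tauto
where
  neg_one_pow_congr' {m n : ℕ} (h : Even m ↔ Even n) : (-1 : S) ^ m = (-1) ^ n := by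
    by_cases hm : Even m
    · rw [hm.neg_one_pow, (h.1 hm).neg_one_pow]
    · rw [(Nat.not_even_iff_odd.1 hm).neg_one_pow,
        (Nat.not_even_iff_odd.1 fun hn => hm (h.2 hn)).neg_one_pow]

/-- The formula for a factorization. -/
theorem tame_fac {π : R} (hπ : π ∈ nonZeroDivisors R) (w z : Rˣ) (e f : ℕ) :
    tame R ((w : R) * π ^ e) ((z : R) * π ^ f) =
      ((-1 : ResidueField R) ^ (e * f) * residue R (w : R) ^ f * (residue R (z : R) ^ e)⁻¹) ^
        ordN R π := by
  set d := ordN R π with hd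
  have h : ∃ Y : Rˣ, ((w : R) * π ^ e) ^ ordN R ((z : R) * π ^ f) =
      (Y : R) * ((z : R) * π ^ f) ^ ordN R ((w : R) * π ^ e) := by
    refine ⟨w ^ (f * d) * z⁻¹ ^ (e * d), ?_⟩
    rw [ordN_fac hπ, ordN_fac hπ, ← hd, mul_pow, mul_pow, ← pow_mul, ← pow_mul, Units.val_mul,
      Units.val_pow_eq_pow_val, Units.val_pow_eq_pow_val]
    have : ((z⁻¹ : Rˣ) : R) ^ (e * d) * (z : R) ^ (e * d) = 1 := by
      rw [← mul_pow, Units.inv_mul, one_pow]
    rw [show e * (f * d) = f * (e * d) by ring]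
    linear_combination (-(w : R) ^ (f * d) * π ^ (f * (e * d))) * this
  rw [tame, dif_pos h]
  have hY := h.choose_spec
  generalize h.choose = Y at hY ⊢
  simp only [ordN_fac hπ, ← hd, mul_pow, ← pow_mul] at hY
  rw [show e * (f * d) = f * (e * d) by ring] at hY
  have hY' : (w : R) ^ (f * d) = (Y : R) * (z : R) ^ (e * d) :=
    mul_cancel_right_mem_nonZeroDivisors (pow_mem hπ (f * (e * d))) |>.1 (by rw [hY]; ring)
  have hz : residue R (z : R) ≠ 0 := ((z.isUnit).map (residue R)).ne_zero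
  have hr := congrArg (residue R) hY'
  simp only [map_pow, map_mul] at hr
  rw [ordN_fac hπ, ordN_fac hπ, ← hd, neg_one_pow_congr, mul_assoc (_ ^ (e * f)), mul_pow]
  congr 1
  rw [mul_pow, inv_pow, ← pow_mul, ← pow_mul, hr, mul_inv_cancel_right₀ (pow_ne_zero _ hz)]

theorem tame_unit (w z : Rˣ) : tame R (w : R) (z : R) = 1 := by
  have := tame_fac (R := R) (one_mem _) w z 0 0
  simpa [ordN] using this

theorem Fac.pair {a b : R} (h : Fac R ![a, b]) :
    ∃ π ∈ nonZeroDivisors R, ∃ (w z : Rˣ) (e f : ℕ), a = (w : R) * π ^ e ∧ b = (z : R) * π ^ f := by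
  obtain ⟨π, hπ, h⟩ := h
  obtain ⟨w, e, hw⟩ := h 0
  obtain ⟨z, f, hz⟩ := h 1
  exact ⟨π, hπ, w, z, e, f, hw, hz⟩

theorem residue_ne_zero_unit (w : Rˣ) : residue R (w : R) ≠ 0 := (w.isUnit.map (residue R)).ne_zero

theorem tame_ne_zero {a b : R} (h : Fac R ![a, b]) : tame R a b ≠ 0 := by
  obtain ⟨π, hπ, w, z, e, f, rfl, rfl⟩ := h.pair
  rw [tame_fac hπ]
  exact pow_ne_zero _ (mul_ne_zero (mul_ne_zero (pow_ne_zero _ (neg_ne_zero.2 one_ne_zero))
    (pow_ne_zero _ (residue_ne_zero_unit w))) (inv_ne_zero (pow_ne_zero _ (residue_ne_zero_unit z))))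

theorem tame_mul {a a' b : R} (h : Fac R ![a, a', b]) :
    tame R (a * a') b = tame R a b * tame R a' b ∧ tame R b (a * a') = tame R b a * tame R b a' := by
  obtain ⟨π, hπ, h⟩ := h
  obtain ⟨w, e, hw⟩ := h 0
  obtain ⟨w', e', hw'⟩ := h 1
  obtain ⟨z, f, hz⟩ := h 2
  simp only [Matrix.cons_val_zero, Matrix.cons_val_one] at hw hw'
  change b = _ at hz
  subst hw hw' hz
  have e1 : (w : R) * π ^ e * ((w' : R) * π ^ e') = ((w * w' : Rˣ) : R) * π ^ (e + e') := by
    rw [Units.val_mul, pow_add]; ring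
  rw [e1, tame_fac hπ, tame_fac hπ, tame_fac hπ, tame_fac hπ, tame_fac hπ, tame_fac hπ]
  simp only [Units.val_mul, map_mul]
  constructor <;> rw [← mul_pow] <;> congr 1
  · rw [add_mul, pow_add, pow_add, mul_pow, mul_inv]; ring
  · rw [mul_add, pow_add, pow_add, mul_pow, mul_inv]; ring

theorem tame_self {b : R} (h : Fac R ![b, b]) : tame R b b = (-1) ^ ordN R b := by
  obtain ⟨π, hπ, w, -, e, -, rfl, -⟩ := h.pair
  rw [tame_fac hπ, ordN_fac hπ, mul_inv_cancel_right₀ (pow_ne_zero _ (residue_ne_zero_unit w)),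
    pow_mul _ e (ordN R π)]
  congr 1
  rcases Nat.even_or_odd e with he | he
  · rw [he.neg_one_pow, (he.mul_right e).neg_one_pow]
  · rw [he.neg_one_pow, (he.mul he).neg_one_pow]

theorem tame_unit_left (c : Rˣ) {b : R} (h : Fac R ![b]) :
    tame R (c : R) b = residue R (c : R) ^ ordN R b := by
  obtain ⟨π, hπ, h⟩ := h
  obtain ⟨z, f, hz⟩ := h 0
  simp only [Matrix.cons_val_zero] at hz
  subst hz
  have e := tame_fac hπ c z 0 f
  rw [pow_zero, mul_one] at e
  rw [e, ordN_fac hπ]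
  simp [pow_mul]

theorem unit_pow_eq {π : R} (hπ : π ∈ nonZeroDivisors R) (hm : π ∈ maximalIdeal R) {w : Rˣ} {x : R}
    {g e : ℕ} (hx : IsUnit x) (h : (w : R) * π ^ g = x * π ^ e) : g = e ∧ (w : R) = x := by
  rcases lt_trichotomy g e with hlt | rfl | hlt
  · exfalso
    obtain ⟨k, rfl⟩ : ∃ k, e = g + (k + 1) := ⟨e - g - 1, by omega⟩
    rw [pow_add, mul_comm (π ^ g), ← mul_assoc] at h
    exact (mem_maximalIdeal _).1 (Ideal.mul_mem_left _ x (Ideal.pow_mem_of_mem _ hm (k + 1) (by omega)))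
      ((mul_cancel_right_mem_nonZeroDivisors (pow_mem hπ g)).1 h ▸ w.isUnit)
  · exact ⟨rfl, (mul_cancel_right_mem_nonZeroDivisors (pow_mem hπ g)).1 h⟩
  · exfalso
    obtain ⟨k, rfl⟩ : ∃ k, g = e + (k + 1) := ⟨g - e - 1, by omega⟩
    rw [pow_add, mul_comm (π ^ e), ← mul_assoc] at h
    exact (mem_maximalIdeal _).1 (Ideal.mul_mem_left _ (w : R) (Ideal.pow_mem_of_mem _ hm (k + 1) (by omega)))
      ((mul_cancel_right_mem_nonZeroDivisors (pow_mem hπ e)).1 h ▸ hx)

theorem tame_steinberg {a b : R} (h : Fac R ![a, b, b - a]) :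
    tame R a (b - a) * tame R b b = tame R b (b - a) * tame R a b := by
  obtain ⟨π, hπ, h⟩ := h
  obtain ⟨w, e, hw⟩ := h 0
  obtain ⟨z, f, hz⟩ := h 1
  obtain ⟨s, g, hs⟩ := h 2
  change a = _ at hw
  change b = _ at hz
  change b - a = _ at hs
  rw [hs]
  subst hw hz
  by_cases hm : π ∈ maximalIdeal R
  swap
  · have hd : ordN R π = 0 := by
      obtain ⟨p, rfl⟩ := notMem_maximalIdeal.1 hm
      rw [ordN, ord_unit]
      rfl
    simp [tame_fac hπ, hd]
  simp only [tame_fac hπ, ← mul_pow]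
  congr 1
  have hw0 := residue_ne_zero_unit w
  have hz0 := residue_ne_zero_unit z
  have hs0 := residue_ne_zero_unit s
  have sgn : ∀ n : ℕ, (-1 : ResidueField R) ^ (n * n) = (-1) ^ n := fun n => by
    rcases Nat.even_or_odd n with hn | hn
    · rw [hn.neg_one_pow, (hn.mul_right n).neg_one_pow]
    · rw [hn.neg_one_pow, (hn.mul hn).neg_one_pow]
  rcases lt_trichotomy e f with hlt | rfl | hlt
  · obtain ⟨k, rfl⟩ : ∃ k, f = e + (k + 1) := ⟨f - e - 1, by omega⟩
    have hu : IsUnit ((z : R) * π ^ (k + 1) - (w : R)) := by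
      rw [← notMem_maximalIdeal]
      intro hmem
      refine (mem_maximalIdeal _).1 ?_ w.isUnit
      have h2 := Ideal.sub_mem _ (Ideal.mul_mem_left _ (z : R)
        (Ideal.pow_mem_of_mem _ hm (k + 1) (by omega))) hmem
      rwa [sub_sub_cancel] at h2
    obtain ⟨rfl, hs'⟩ := unit_pow_eq (R := R) hπ hm hu (show (s : R) * π ^ g = _ * π ^ e by
      rw [← hs, sub_mul, mul_assoc, ← pow_add, add_comm e])
    have hπ0 : residue R π = 0 := (residue_eq_zero_iff π).2 hm
    have hsr : residue R (s : R) = -residue R (w : R) := by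
      rw [hs', map_sub, map_mul, map_pow, hπ0, zero_pow (by omega), mul_zero, zero_sub]
    rw [hsr, sgn, sgn]
    field_simp
    rw [neg_pow (residue R (w : R)) g, neg_pow (residue R (w : R)) (g + (k + 1)),
      mul_comm (g + (k + 1)) g]
    have sq : ∀ n : ℕ, (-1 : ResidueField R) ^ n * (-1) ^ n = 1 := fun n => by
      rw [← mul_pow, neg_one_mul, neg_neg, one_pow]
    linear_combination (residue R (w : R) ^ g * residue R (w : R) ^ (g + (k + 1)) * (-1) ^ g) *
      (sq (g + (k + 1)) - sq (g * (g + (k + 1))))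
  · rcases lt_trichotomy g e with hg | rfl | hg
    · exfalso
      obtain ⟨k, rfl⟩ : ∃ k, e = g + (k + 1) := ⟨e - g - 1, by omega⟩
      have h1 : (s : R) * π ^ g = ((z : R) - w) * π ^ (k + 1) * π ^ g := by rw [← hs, pow_add]; ring
      exact (mem_maximalIdeal _).1 (Ideal.mul_mem_left _ _ (Ideal.pow_mem_of_mem _ hm (k + 1) (by omega)))
        ((mul_cancel_right_mem_nonZeroDivisors (pow_mem hπ g)).1 h1 ▸ s.isUnit)
    · rw [sgn]
      field_simp
    · obtain ⟨k, rfl⟩ : ∃ k, g = e + (k + 1) := ⟨g - e - 1, by omega⟩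
      have h1 : ((z : R) - w) * π ^ e = (s : R) * π ^ (k + 1) * π ^ e := by
        rw [sub_mul, hs, pow_add]; ring
      have h2 := (mul_cancel_right_mem_nonZeroDivisors (pow_mem hπ e)).1 h1
      have hzw : residue R (z : R) = residue R (w : R) := by
        rw [← sub_eq_zero, ← map_sub, h2, residue_eq_zero_iff]
        exact Ideal.mul_mem_left _ _ (Ideal.pow_mem_of_mem _ hm (k + 1) (by omega))
      rw [hzw]
  · obtain ⟨k, rfl⟩ : ∃ k, e = f + (k + 1) := ⟨e - f - 1, by omega⟩
    have hu : IsUnit ((z : R) - (w : R) * π ^ (k + 1)) := by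
      rw [← notMem_maximalIdeal]
      intro hmem
      refine (mem_maximalIdeal _).1 ?_ z.isUnit
      have h2 := Ideal.add_mem _ hmem (Ideal.mul_mem_left _ (w : R)
        (Ideal.pow_mem_of_mem _ hm (k + 1) (by omega)))
      rwa [sub_add_cancel] at h2
    obtain ⟨rfl, hs'⟩ := unit_pow_eq (R := R) hπ hm hu (show (s : R) * π ^ g = _ * π ^ f by
      rw [← hs, sub_mul, mul_assoc, ← pow_add, add_comm f])
    have hπ0 : residue R π = 0 := (residue_eq_zero_iff π).2 hm
    have hsr : residue R (s : R) = residue R (z : R) := by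
      rw [hs', map_sub, map_mul, map_pow, hπ0, zero_pow (by omega), mul_zero, sub_zero]
    rw [hsr]
    field_simp

/-- The intrinsic symbol is the local factor. -/
theorem tame_eq_factor {a b π : R} (hπ : π ∈ nonZeroDivisors R) (w z : Rˣ) (e f : ℕ)
    (ha : a = (w : R) * π ^ e) (hb : b = (z : R) * π ^ f) :
    tame R a b = ((-1 : ResidueField R) ^ (e * f) * residue R (w : R) ^ f *
      (residue R (z : R) ^ e)⁻¹) ^ (Ring.ord R π).toNat := by
  rw [ha, hb, tame_fac hπ]; rfl

end Groth.Agent.TameAlg50
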