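import Groth.Agent.TameAlg50.Laws
import Mathlib.RingTheory.LocalRing.ResidueField.Instances
import Mathlib.RingTheory.Norm.Basic

/-! The norm on a zero-dimensional fibre is the product of the local norms, with lengths as exponents. -/

set_option autoImplicit false
set_option linter.unusedSectionVars false
set_option linter.style.haveILetI false

universe u

namespace Groth.Agent.TameAlg50

open IsLocalRing

section Step

variable {C : Type u} [CommRing C] [IsNoetherianRing C]

/-- A proper ideal has a step with quotient `C/P`. -/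
theorem exists_step (I : Ideal C) (hI : I ≠ ⊤) (hmax : ∀ p : Ideal C, p.IsPrime → I ≤ p → p.IsMaximal) :
    ∃ (P : MaximalSpectrum C) (z : C), z ∉ I ∧ I ≤ P.asIdeal ∧ ∀ c, c * z ∈ I ↔ c ∈ P.asIdeal := by
  haveI : Nontrivial (C ⧸ I) := Ideal.Quotient.nontrivial_iff.2 hI
  obtain ⟨P, hP, -⟩ := exists_le_isAssociatedPrime_of_isNoetherianRing C (1 : C ⧸ I) one_ne_zero
  obtain ⟨hPp, w, hw⟩ := isAssociatedPrime_iff.1 hP
  obtain ⟨z, rfl⟩ := Ideal.Quotient.mk_surjective w
  have hmem : ∀ c, c * z ∈ I ↔ c ∈ P := fun c => by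
    rw [hw, Submodule.mem_colon_singleton, Submodule.mem_bot, Algebra.smul_def, Ideal.Quotient.algebraMap_eq,
      ← map_mul, Ideal.Quotient.eq_zero_iff_mem]
  have hle : I ≤ P := fun c hc => (hmem c).1 (I.mul_mem_right z hc)
  refine ⟨⟨P, hmax P hPp hle⟩, z, fun hz => hPp.ne_top ?_, hle, hmem⟩
  exact (Ideal.eq_top_iff_one P).2 ((hmem 1).1 (by rwa [one_mul]))

/-- Additivity of the length along a step. -/
theorem locLen_step (Q : MaximalSpectrum C) {I P : Ideal C} {z : C}
    (h : ∀ c, c * z ∈ I ↔ c ∈ P) :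
    Len90.locLen Q.asIdeal (C ⧸ I) =
      Len90.locLen Q.asIdeal (C ⧸ P) + Len90.locLen Q.asIdeal (C ⧸ (I ⊔ Ideal.span {z})) := by
  refine Len90.locLen_exact Q.asIdeal
    (Submodule.mapQ P I (LinearMap.toSpanSingleton C C z) fun c hc => (h c).2 hc)
    (Submodule.factor le_sup_left) ?_ (Submodule.factor_surjective _) ?_
  · refine (injective_iff_map_eq_zero _).2 fun c hc => ?_
    obtain ⟨x, rfl⟩ := Submodule.Quotient.mk_surjective _ c
    exact (Submodule.Quotient.mk_eq_zero _).2 ((h x).1 ((Submodule.Quotient.mk_eq_zero I (x := x * z)).1 hc))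
  · intro c
    obtain ⟨x, rfl⟩ := Submodule.Quotient.mk_surjective _ c
    constructor
    · intro hc
      obtain ⟨i, hi, w, hw, rfl⟩ := Submodule.mem_sup.1 ((Submodule.Quotient.mk_eq_zero _).1 hc)
      obtain ⟨r, rfl⟩ := Ideal.mem_span_singleton'.1 hw
      refine ⟨Submodule.Quotient.mk r, ?_⟩
      show (Submodule.Quotient.mk (r * z) : C ⧸ I) = Submodule.Quotient.mk (i + r * z)
      rw [Submodule.Quotient.eq]
      simpa using I.neg_mem hi
    · rintro ⟨c, hc⟩
      obtain ⟨y, rfl⟩ := Submodule.Quotient.mk_surjective _ c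
      rw [← hc]
      exact (Submodule.Quotient.mk_eq_zero _).2 (Ideal.mem_sup_right (Ideal.mem_span_singleton'.2 ⟨y, rfl⟩))

theorem locLen_quot_ite [DecidableEq (MaximalSpectrum C)] (Q P : MaximalSpectrum C) :
    Len90.locLen Q.asIdeal (C ⧸ P.asIdeal) = if Q = P then 1 else 0 := by
  split_ifs with h
  · subst h
    exact Len90.locLen_quot_self Q.asIdeal
  · exact Len90.locLen_quot_of_not_le _ _ fun hle =>
      h (MaximalSpectrum.ext (P.isMaximal.eq_of_le Q.isMaximal.ne_top hle).symm)

theorem locLen_quot_top (Q : MaximalSpectrum C) : Len90.locLen Q.asIdeal (C ⧸ (⊤ : Ideal C)) = 0 :=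
  locLen_zero_of_smul Q _ (c := 1) (fun h => Q.isMaximal.ne_top ((Ideal.eq_top_iff_one _).2 h))
    fun _ => Subsingleton.elim _ _

theorem locLen_quot_ne_top (Q : MaximalSpectrum C) (I : Ideal C)
    (hmax : ∀ p : Ideal C, p.IsPrime → I ≤ p → p.IsMaximal) :
    Len90.locLen Q.asIdeal (C ⧸ I) ≠ ⊤ :=
  locLen_ne_top_of_maximal Q _ fun p hp => by
    refine hmax p.asIdeal p.isPrime ?_
    rw [Module.mem_support_iff_of_finite, Ideal.annihilator_quotient] at hp
    exact hp

end Step

theorem det_exact {k : Type u} [Field k] {U V W : Type u} [AddCommGroup U] [AddCommGroup V] [AddCommGroup W]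
    [Module k U] [Module k V] [Module k W] [FiniteDimensional k V]
    (f : U →ₗ[k] V) (g : V →ₗ[k] W) (hf : Function.Injective f) (hg : Function.Surjective g)
    (hfg : Function.Exact f g) (eU : Module.End k U) (eV : Module.End k V) (eW : Module.End k W)
    (hU : ∀ x, f (eU x) = eV (f x)) (hW : ∀ x, g (eV x) = eW (g x)) :
    LinearMap.det eV = LinearMap.det eU * LinearMap.det eW := by
  let R := LinearMap.range f
  have he : R ≤ R.comap eV := by
    rintro _ ⟨x, rfl⟩
    exact ⟨eU x, hU x⟩
  rw [LinearMap.det_eq_det_mul_det R eV he]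
  let α : U ≃ₗ[k] R := LinearEquiv.ofInjective f hf
  have hRk : R = LinearMap.ker g := (LinearMap.exact_iff.1 hfg).symm
  let β : (V ⧸ R) ≃ₗ[k] W := (Submodule.quotEquivOfEq _ _ hRk).trans (g.quotKerEquivOfSurjective hg)
  congr 1
  · rw [← LinearMap.det_conj eU α]
    congr 1
    refine LinearMap.ext fun y => Subtype.ext ?_
    obtain ⟨x, rfl⟩ := α.surjective y
    simp only [LinearMap.comp_apply, LinearEquiv.coe_coe, LinearEquiv.symm_apply_apply]
    exact (hU x).symm
  · rw [← LinearMap.det_conj (R.mapQ R eV he) β]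
    congr 1
    refine LinearMap.ext fun y => ?_
    obtain ⟨x, rfl⟩ := hg y
    have hx : β.symm (g x) = Submodule.Quotient.mk x := by
      rw [LinearEquiv.symm_apply_eq]; rfl
    simp only [LinearMap.comp_apply, LinearEquiv.coe_coe, hx, Submodule.mapQ_apply]
    exact hW x

section Fibre

variable {R C : Type u} [CommRing R] [IsNoetherianRing R] [IsLocalRing R] [CommRing C] [Algebra R C]
  [Module.Finite R C]

/-- The residue algebra on a quotient containing the maximal ideal. -/
noncomputable abbrev quotAlg (I : Ideal C) (hI : maximalIdeal R ≤ I.comap (algebraMap R C)) :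
    Algebra (ResidueField R) (C ⧸ I) :=
  Ideal.Quotient.algebraQuotientOfLEComap hI

theorem quotAlg_apply (I : Ideal C) (hI : maximalIdeal R ≤ I.comap (algebraMap R C)) (r : R) :
    letI := quotAlg I hI
    algebraMap (ResidueField R) (C ⧸ I) (residue R r) = Ideal.Quotient.mk I (algebraMap R C r) := rfl

theorem quotAlg_finite (I : Ideal C) (hI : maximalIdeal R ≤ I.comap (algebraMap R C)) :
    letI := quotAlg I hI
    Module.Finite (ResidueField R) (C ⧸ I) := by
  letI := quotAlg I hI
  haveI : IsScalarTower R (ResidueField R) (C ⧸ I) := IsScalarTower.of_algebraMap_eq fun x => rfl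
  exact Module.Finite.of_restrictScalars_finite R _ _

theorem isMaximal_of_le_prime {I : Ideal C} (hI : maximalIdeal R ≤ I.comap (algebraMap R C))
    (p : Ideal C) (hp : p.IsPrime) (hle : I ≤ p) : p.IsMaximal := by
  refine Ideal.isMaximal_of_isIntegral_of_isMaximal_comap (R := R) p ?_
  rw [← (maximalIdeal.isMaximal R).eq_of_le (Ideal.IsPrime.comap _).ne_top (hI.trans (Ideal.comap_mono hle))]
  exact maximalIdeal.isMaximal R

theorem norm_quot_max (y : C) (P : MaximalSpectrum C)
    [IsLocalHom (algebraMap R (Localization.AtPrime P.asIdeal))]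
    (hP : maximalIdeal R ≤ P.asIdeal.comap (algebraMap R C)) :
    letI := quotAlg P.asIdeal hP
    Algebra.norm (ResidueField R) (Ideal.Quotient.mk P.asIdeal y) =
      Algebra.norm (ResidueField R)
        (residue (Localization.AtPrime P.asIdeal) (algebraMap C (Localization.AtPrime P.asIdeal) y)) := by
  haveI := P.isMaximal
  letI := quotAlg P.asIdeal hP
  let e : (C ⧸ P.asIdeal) ≃+* ResidueField (Localization.AtPrime P.asIdeal) :=
    RingEquiv.ofBijective _ P.asIdeal.bijective_algebraMap_quotient_residueField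
  rw [Algebra.norm_eq_of_equiv_equiv (RingEquiv.refl (ResidueField R)) e
    (B₂ := ResidueField (Localization.AtPrime P.asIdeal))
    (RingHom.ext fun x => by
      obtain ⟨x, rfl⟩ := residue_surjective x
      show residue _ (algebraMap R (Localization.AtPrime P.asIdeal) x) = _
      rw [IsScalarTower.algebraMap_apply R C (Localization.AtPrime P.asIdeal)]
      rfl)]
  rfl

theorem norm_step (y : C) (I : Ideal C) (P : MaximalSpectrum C) (z : C)
    (hmem : ∀ c, c * z ∈ I ↔ c ∈ P.asIdeal) (hI : maximalIdeal R ≤ I.comap (algebraMap R C))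
    (hIP : maximalIdeal R ≤ P.asIdeal.comap (algebraMap R C))
    (hI' : maximalIdeal R ≤ Ideal.comap (algebraMap R C) (I ⊔ Ideal.span {z})) :
    letI := quotAlg I hI
    letI := quotAlg P.asIdeal hIP
    letI := quotAlg (I ⊔ Ideal.span {z}) hI'
    Algebra.norm (ResidueField R) (Ideal.Quotient.mk I y) =
      Algebra.norm (ResidueField R) (Ideal.Quotient.mk P.asIdeal y) *
        Algebra.norm (ResidueField R) (Ideal.Quotient.mk (I ⊔ Ideal.span {z}) y) := by
  letI := quotAlg I hI
  haveI := quotAlg_finite I hI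
  letI := quotAlg P.asIdeal hIP
  letI := quotAlg (I ⊔ Ideal.span {z}) hI'
  haveI := quotAlg_finite P.asIdeal hIP
  let f : (C ⧸ P.asIdeal) →ₗ[ResidueField R] (C ⧸ I) :=
    { toFun := Submodule.mapQ P.asIdeal I (LinearMap.toSpanSingleton C C z) fun c hc => (hmem c).2 hc
      map_add' := map_add _
      map_smul' := fun k x => by
        obtain ⟨r, rfl⟩ := residue_surjective k
        obtain ⟨c, rfl⟩ := Ideal.Quotient.mk_surjective x
        rw [RingHom.id_apply, Algebra.smul_def, quotAlg_apply, Algebra.smul_def, quotAlg_apply, ← map_mul]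
        show Ideal.Quotient.mk I ((algebraMap R C r * c) * z) = _ * Ideal.Quotient.mk I (c * z)
        rw [← map_mul, mul_assoc] }
  let g : (C ⧸ I) →ₗ[ResidueField R] (C ⧸ (I ⊔ Ideal.span {z})) :=
    { toFun := Ideal.Quotient.factor (le_sup_left : I ≤ I ⊔ Ideal.span {z})
      map_add' := map_add _
      map_smul' := fun k x => by
        obtain ⟨r, rfl⟩ := residue_surjective k
        rw [RingHom.id_apply, Algebra.smul_def, quotAlg_apply, Algebra.smul_def, quotAlg_apply, map_mul,
          Ideal.Quotient.factor_mk] }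
  simp only [Algebra.norm_apply]
  refine det_exact f g ?_ (fun w => ?_) ?_ _ _ _ ?_ ?_
  · refine (injective_iff_map_eq_zero f).2 fun x hx => ?_
    obtain ⟨c, rfl⟩ := Ideal.Quotient.mk_surjective x
    exact Ideal.Quotient.eq_zero_iff_mem.2 ((hmem c).1 (Ideal.Quotient.eq_zero_iff_mem.1 hx))
  · obtain ⟨c, rfl⟩ := Ideal.Quotient.mk_surjective w
    exact ⟨Ideal.Quotient.mk I c, Ideal.Quotient.factor_mk (le_sup_left : I ≤ I ⊔ Ideal.span {z}) c⟩
  · intro x
    obtain ⟨c, rfl⟩ := Ideal.Quotient.mk_surjective x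
    constructor
    · intro hc
      replace hc : Ideal.Quotient.mk (I ⊔ Ideal.span {z}) c = 0 := (Ideal.Quotient.factor_mk (le_sup_left : I ≤ I ⊔ Ideal.span {z}) c).symm.trans hc
      obtain ⟨i, hi, w, hw, rfl⟩ := Submodule.mem_sup.1 (Ideal.Quotient.eq_zero_iff_mem.1 hc)
      obtain ⟨r, rfl⟩ := Ideal.mem_span_singleton'.1 hw
      refine ⟨Ideal.Quotient.mk _ r, ?_⟩
      show Ideal.Quotient.mk I (r * z) = _
      rw [Ideal.Quotient.eq]
      simpa using I.neg_mem hi
    · rintro ⟨x, hx⟩
      obtain ⟨r, rfl⟩ := Ideal.Quotient.mk_surjective x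
      rw [← hx]
      exact (Ideal.Quotient.factor_mk (le_sup_left : I ≤ I ⊔ Ideal.span {z}) (r * z)).trans (Ideal.Quotient.eq_zero_iff_mem.2
        (Ideal.mem_sup_right (Ideal.mem_span_singleton'.2 ⟨r, rfl⟩)))
  · intro x
    obtain ⟨c, rfl⟩ := Ideal.Quotient.mk_surjective x
    show Ideal.Quotient.mk I ((y * c) * z) = Ideal.Quotient.mk I y * Ideal.Quotient.mk I (c * z)
    rw [← map_mul, mul_assoc]
  · intro x
    show Ideal.Quotient.factor (le_sup_left : I ≤ I ⊔ Ideal.span {z}) (Ideal.Quotient.mk I y * x) = _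
    rw [map_mul, Ideal.Quotient.factor_mk]
    rfl

/-- The norm on the fibre is the product of the local norms. -/
theorem norm_fibre [Fintype (MaximalSpectrum C)]
    [hloc : ∀ P : MaximalSpectrum C, IsLocalHom (algebraMap R (Localization.AtPrime P.asIdeal))]
    (y : C) (I : Ideal C) : ∀ hI : maximalIdeal R ≤ I.comap (algebraMap R C),
    letI := quotAlg I hI
    Algebra.norm (ResidueField R) (Ideal.Quotient.mk I y) =
      ∏ P : MaximalSpectrum C, Algebra.norm (ResidueField R)
        (residue (Localization.AtPrime P.asIdeal) (algebraMap C (Localization.AtPrime P.asIdeal) y)) ^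
          (Len90.locLen P.asIdeal (C ⧸ I)).toNat := by
  classical
  haveI : IsNoetherianRing C := isNoetherianRing_of_finite (A := R)
  induction I using IsNoetherian.induction with
  | hgt I ih =>
    intro hI
    letI := quotAlg I hI
    haveI := quotAlg_finite I hI
    by_cases hT : I = ⊤
    · subst hT
      rw [Algebra.norm_apply, LinearMap.det_eq_one_of_subsingleton]
      exact (Finset.prod_eq_one fun P _ => by rw [locLen_quot_top, ENat.toNat_zero, pow_zero]).symm
    obtain ⟨P, z, hz, hle, hmem⟩ := exists_step I hT (isMaximal_of_le_prime hI)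
    have hlt : I < I ⊔ Ideal.span {z} := lt_of_le_of_ne le_sup_left fun e =>
      hz (e.symm ▸ Ideal.mem_sup_right (Ideal.mem_span_singleton_self z))
    have hI' : maximalIdeal R ≤ Ideal.comap (algebraMap R C) (I ⊔ Ideal.span {z}) :=
      hI.trans (Ideal.comap_mono le_sup_left)
    have hIP : maximalIdeal R ≤ P.asIdeal.comap (algebraMap R C) := hI.trans (Ideal.comap_mono hle)
    letI := quotAlg P.asIdeal hIP
    letI := quotAlg (I ⊔ Ideal.span {z}) hI'
    have hkey := norm_step y I P z hmem hI hIP hI'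
    rw [hkey, norm_quot_max y P hIP, ih _ hlt hI']
    have hfin : ∀ Q : MaximalSpectrum C, Len90.locLen Q.asIdeal (C ⧸ (I ⊔ Ideal.span {z})) ≠ ⊤ :=
      fun Q => locLen_quot_ne_top Q _ (isMaximal_of_le_prime hI')
    have hfin' : ∀ Q : MaximalSpectrum C, Len90.locLen Q.asIdeal (C ⧸ P.asIdeal) ≠ ⊤ :=
      fun Q => by rw [locLen_quot_ite]; split_ifs <;> simp
    have hlen : ∀ Q : MaximalSpectrum C, (Len90.locLen Q.asIdeal (C ⧸ I)).toNat =
        (if Q = P then 1 else 0) + (Len90.locLen Q.asIdeal (C ⧸ (I ⊔ Ideal.span {z}))).toNat := fun Q => by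
      rw [locLen_step Q hmem, ENat.toNat_add (hfin' Q) (hfin Q), locLen_quot_ite]
      split_ifs <;> rfl
    simp only [hlen, pow_add, Finset.prod_mul_distrib]
    congr 1
    rw [Finset.prod_eq_single P]
    · simp
    · intro Q _ hQ; simp [hQ]
    · simp

end Fibre

end Groth.Agent.TameAlg50
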