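import Groth.Agent.TameAlg50.Closure
import Mathlib.RingTheory.Adjoin.FG
import Mathlib.RingTheory.Localization.Integer

/-! Finite birational extensions with common factorizations. -/

set_option autoImplicit false
set_option linter.unusedSectionVars false
set_option linter.style.haveILetI false

universe u

namespace Groth.Agent.TameAlg50

open IsLocalRing

variable {A : Type u} [CommRing A] [IsNoetherianRing A] [IsLocalRing A]

theorem ext_subalgebra (hA : ringKrullDim A = 1) (B : Subalgebra A (FractionRing A))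
    [Module.Finite A B] : Ext A B where
  finExt := by
    classical
    refine ⟨fun x y e => IsFractionRing.injective A (FractionRing A) (congrArg Subtype.val e),
      inferInstance, ?_⟩
    obtain ⟨S, hS⟩ := Module.Finite.fg_top (R := A) (M := B)
    obtain ⟨s, hs⟩ := IsLocalization.exist_integer_multiples_of_finset (nonZeroDivisors A)
      (S.image fun b : B => (b : FractionRing A))
    obtain ⟨n, hn⟩ := exists_pow_le_span hA s.2
    refine ⟨n, fun r hr b => ?_⟩
    obtain ⟨r, rfl⟩ := Ideal.mem_span_singleton'.1 (hn hr)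
    have hb : (s : A) • b ∈ LinearMap.range (Algebra.linearMap A B) := by
      have hb' : b ∈ Submodule.span A (S : Set B) := hS ▸ Submodule.mem_top
      induction hb' using Submodule.span_induction with
      | mem x hx =>
        obtain ⟨y, hy⟩ := hs _ (Finset.mem_image_of_mem _ hx)
        exact ⟨y, Subtype.ext hy⟩
      | zero => rw [smul_zero]; exact zero_mem _
      | add x y _ _ hx hy => rw [smul_add]; exact add_mem hx hy
      | smul c x _ hx => rw [smul_comm]; exact Submodule.smul_mem _ c hx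
    obtain ⟨y, hy⟩ := hb
    exact ⟨r * y, by
      rw [map_mul, mul_smul, ← hy, Algebra.smul_def]; rfl⟩
  regular c hc := fun x y e => Subtype.ext
    ((IsLocalization.map_units (FractionRing A) (⟨c, hc⟩ : nonZeroDivisors A)).mul_left_cancel (by
      have := congrArg Subtype.val e
      simpa [Algebra.smul_def] using this))

/-- A birational finite extension of `A` embeds into its total ring of fractions. -/
theorem exists_emb {t : A} (htm : t ∈ maximalIdeal A) (ht : t ∈ nonZeroDivisors A) (B : Type u)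
    [CommRing B] [Algebra A B] (hB : Ext A B) :
    ∃ f : B →ₐ[A] FractionRing A, Function.Injective f := by
  obtain ⟨n, hn⟩ := hB.finExt.2.2
  have hinj := hB.finExt.1
  choose g hg using fun b => hn (t ^ n) (Ideal.pow_mem_pow htm n) b
  let u : (FractionRing A)ˣ :=
    (IsLocalization.map_units (FractionRing A) (⟨t ^ n, pow_mem ht n⟩ : nonZeroDivisors A)).unit
  have hu : (u : FractionRing A) = algebraMap A _ (t ^ n) := rfl
  let f : B → FractionRing A := fun b => algebraMap A _ (g b) * (↑u⁻¹ : FractionRing A)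
  have hf : ∀ b x, t ^ n • b = algebraMap A B x → f b = algebraMap A _ x * (↑u⁻¹ : FractionRing A) := by
    intro b x h
    show algebraMap A _ (g b) * _ = _
    rw [show g b = x from hinj ((hg b).trans h)]
  have halg : ∀ x, f (algebraMap A B x) = algebraMap A _ x := by
    intro x
    rw [hf _ (t ^ n * x) (by rw [Algebra.smul_def, map_mul]), map_mul, ← hu, mul_comm (u : FractionRing A),
      Units.mul_inv_cancel_right]
  refine ⟨{ toFun := f
            map_one' := by simpa using halg 1
            map_mul' := fun b c => ?_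
            map_zero' := by simpa using halg 0
            map_add' := fun b c => ?_
            commutes' := halg }, fun b c h => ?_⟩
  · have h1 : algebraMap A B (g b) * algebraMap A B (g c) =
        algebraMap A B (t ^ n * g (b * c)) := by
      rw [map_mul, hg, hg, hg]
      simp only [Algebra.smul_def]
      ring
    rw [← map_mul] at h1
    have h2 : g b * g c = t ^ n * g (b * c) := hinj h1
    show algebraMap A _ (g (b * c)) * (↑u⁻¹ : FractionRing A) =
      algebraMap A _ (g b) * (↑u⁻¹ : FractionRing A) * (algebraMap A _ (g c) * (↑u⁻¹ : FractionRing A))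
    rw [mul_mul_mul_comm, ← map_mul, h2, map_mul, ← hu]
    rw [mul_comm (u : FractionRing A), mul_assoc (algebraMap A (FractionRing A) (g (b * c))),
      ← mul_assoc (u : FractionRing A), Units.mul_inv, one_mul]
  · rw [hf (b + c) (g b + g c) (by rw [smul_add, map_add, hg, hg]), map_add, add_mul]
  · have h' : algebraMap A (FractionRing A) (g b) = algebraMap A _ (g c) :=
      (IsUnit.mul_left_inj (u⁻¹).isUnit).1 h
    refine hB.regular _ (pow_mem ht n) ?_
    show t ^ n • b = t ^ n • c
    rw [← hg b, ← hg c, IsFractionRing.injective A (FractionRing A) h']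

theorem exists_facExt (hA : ringKrullDim A = 1) {t : A} (htm : t ∈ maximalIdeal A)
    (ht : t ∈ nonZeroDivisors A) {ι : Type*} [Finite ι] (a : ι → A) (ha : ∀ i, a i ∈ nonZeroDivisors A) :
    ∃ (B : Subalgebra A (FractionRing A)) (J : Type u) (_ : Fintype J) (π : J → B),
      Module.Finite A B ∧ (∀ j, π j ∈ nonZeroDivisors B) ∧
      (∀ i j, i ≠ j → Ideal.span {π i, π j} = ⊤) ∧
      ∀ i, ∃ (v : Bˣ) (e : J → ℕ), algebraMap A B (a i) = (v : B) * ∏ j, π j ^ e j := by
  classical
  cases nonempty_fintype ι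
  obtain ⟨J, hJ, π, hπ, hcop, hfac⟩ := exists_parameters hA htm ht
  choose v v' e hv hv' hvv he using fun i => hfac (a i) (ha i)
  choose r s hr hs hrs using fun p : {p : J × J // p.1 ≠ p.2} => hcop p.1.1 p.1.2 p.2
  let T : Set (FractionRing A) :=
    Set.range π ∪ Set.range v ∪ Set.range v' ∪ Set.range r ∪ Set.range s
  let B := Algebra.adjoin A T
  have hT : ∀ x ∈ T, IsIntegral A x := by
    rintro x ((((⟨j, rfl⟩ | ⟨i, rfl⟩) | ⟨i, rfl⟩) | ⟨p, rfl⟩) | ⟨p, rfl⟩)
    exacts [(hπ j).1, hv i, hv' i, hr p, hs p]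
  have hTfin : T.Finite :=
    ((((Set.finite_range π).union (Set.finite_range v)).union (Set.finite_range v')).union
      (Set.finite_range r)).union (Set.finite_range s)
  have hfin : Module.Finite A B := Module.Finite.iff_fg.2 (fg_adjoin_of_finite hTfin hT)
  have mem : ∀ {x}, x ∈ T → x ∈ B := fun h => Algebra.subset_adjoin h
  let π' : J → B := fun j => ⟨π j, mem (Or.inl (Or.inl (Or.inl (Or.inl ⟨j, rfl⟩))))⟩
  refine ⟨B, J, hJ, π', hfin, fun j => ?_, fun i j hij => ?_, fun i => ?_⟩
  · refine mem_nonZeroDivisors_iff_right.2 fun x hx => Subtype.ext ?_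
    exact (hπ j).2.mul_right_cancel ((congrArg Subtype.val hx).trans (zero_mul _).symm)
  · rw [Ideal.eq_top_iff_one, Ideal.mem_span_pair]
    exact ⟨⟨r ⟨(i, j), hij⟩, mem (Or.inl (Or.inr ⟨_, rfl⟩))⟩, ⟨s ⟨(i, j), hij⟩, mem (Or.inr ⟨_, rfl⟩)⟩,
      Subtype.ext (hrs ⟨(i, j), hij⟩)⟩
  · refine ⟨⟨⟨v i, mem (Or.inl (Or.inl (Or.inl (Or.inr ⟨i, rfl⟩))))⟩,
      ⟨v' i, mem (Or.inl (Or.inl (Or.inr ⟨i, rfl⟩)))⟩, Subtype.ext (hvv i),
      Subtype.ext ((mul_comm _ _).trans (hvv i))⟩, e i, Subtype.ext ?_⟩
    show algebraMap A (FractionRing A) (a i) = v i * B.val (∏ j, π' j ^ e i j)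
    rw [map_prod]
    simp only [map_pow]
    exact he i

theorem facAll_of {B : Type u} [CommRing B] [Algebra A B] {J : Type u} [Fintype J] (π : J → B)
    (hπ : ∀ j, π j ∈ nonZeroDivisors B) (hcop : ∀ i j, i ≠ j → Ideal.span {π i, π j} = ⊤)
    {ι : Type*} (a : ι → A)
    (h : ∀ i, ∃ (v : Bˣ) (e : J → ℕ), algebraMap A B (a i) = (v : B) * ∏ j, π j ^ e j) :
    FacAll B a := by
  classical
  intro q
  let L := Localization.AtPrime q.asIdeal
  have hnz : ∀ x ∈ nonZeroDivisors B, algebraMap B L x ∈ nonZeroDivisors L := fun x hx =>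
    IsLocalization.map_nonZeroDivisors_le q.asIdeal.primeCompl L (Submonoid.mem_map_of_mem _ hx)
  have hunit : ∀ x, x ∉ q.asIdeal → IsUnit (algebraMap B L x) := fun x hx =>
    IsLocalization.map_units L (⟨x, hx⟩ : q.asIdeal.primeCompl)
  by_cases hex : ∃ j, π j ∈ q.asIdeal
  · obtain ⟨j, hj⟩ := hex
    refine ⟨algebraMap B L (π j), hnz _ (hπ j), fun i => ?_⟩
    obtain ⟨v, e, he⟩ := h i
    have hu : IsUnit (algebraMap B L ((v : B) * ∏ k ∈ Finset.univ \ {j}, π k ^ e k)) := by
      rw [map_mul, map_prod]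
      refine (v.isUnit.map _).mul (IsUnit.prod_iff.2 fun k hk => ?_)
      rw [map_pow]
      refine (hunit _ fun hkq => q.isMaximal.ne_top ?_).pow _
      have hkj : k ≠ j := by simpa using hk
      rw [eq_top_iff, ← hcop k j hkj, Ideal.span_le]
      rintro x (rfl | rfl)
      exacts [hkq, hj]
    refine ⟨hu.unit, e j, ?_⟩
    show algebraMap A L (a i) = _
    rw [IsUnit.unit_spec, IsScalarTower.algebraMap_apply A B, he, ← map_pow, ← map_mul,
      Finset.prod_eq_mul_prod_sdiff_singleton_of_mem (Finset.mem_univ j) fun k => π k ^ e k]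
    congr 1
    ring
  · push Not at hex
    refine ⟨1, one_mem _, fun i => ?_⟩
    obtain ⟨v, e, he⟩ := h i
    have hu : IsUnit (algebraMap B L ((v : B) * ∏ k, π k ^ e k)) := by
      rw [map_mul, map_prod]
      refine (v.isUnit.map _).mul (IsUnit.prod_iff.2 fun k _ => ?_)
      rw [map_pow]
      exact (hunit _ (hex k)).pow _
    refine ⟨hu.unit, 0, ?_⟩
    show algebraMap A L (a i) = _
    rw [IsUnit.unit_spec, pow_zero, mul_one, IsScalarTower.algebraMap_apply A B, he]

theorem exists_common_factor (hA : ringKrullDim A = 1) (a b : A) (ha : a ∈ nonZeroDivisors A)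
    (hb : b ∈ nonZeroDivisors A) :
    ∃ (R' : Type u) (_ : CommRing R') (_ : Algebra A R'), CycAlg.IsFinExt A R' (maximalIdeal A) ∧
      ∃ t a' b' : R', t ∈ nonZeroDivisors R' ∧ a' ∈ nonZeroDivisors R' ∧ b' ∈ nonZeroDivisors R' ∧
        algebraMap A R' a = t * a' ∧ algebraMap A R' b = t * b' ∧ Ideal.span {a', b'} = ⊤ := by
  classical
  by_cases hu : IsUnit a
  · exact ⟨A, inferInstance, inferInstance, Ext.self.finExt, 1, a, b, one_mem _, ha, hb,
      (one_mul a).symm, (one_mul b).symm, Ideal.eq_top_of_isUnit_mem _ (Ideal.subset_span (Or.inl rfl)) hu⟩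
  obtain ⟨B, J, hJ, π, hfin, hπ, hcop, hfac⟩ :=
    exists_facExt hA ((mem_maximalIdeal a).2 hu) ha ![a, b] (by intro i; fin_cases i <;> assumption)
  obtain ⟨v, e, he⟩ := hfac 0
  obtain ⟨w, f, hf⟩ := hfac 1
  let m : J → ℕ := fun j => min (e j) (f j)
  have hprod : ∀ g : J → ℕ, (∏ j, π j ^ g j) ∈ nonZeroDivisors B :=
    fun g => prod_mem fun j _ => pow_mem (hπ j) _
  refine ⟨B, inferInstance, inferInstance, (ext_subalgebra hA B).finExt, ∏ j, π j ^ m j,
    (v : B) * ∏ j, π j ^ (e j - m j), (w : B) * ∏ j, π j ^ (f j - m j), hprod m,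
    mul_mem v.isUnit.mem_nonZeroDivisors (hprod _), mul_mem w.isUnit.mem_nonZeroDivisors (hprod _), ?_, ?_, ?_⟩
  · rw [show algebraMap A B a = algebraMap A B (![a, b] 0) from rfl, he, mul_left_comm,
      ← Finset.prod_mul_distrib]
    simp only [← pow_add]
    congr 1
    exact Finset.prod_congr rfl fun j _ => by
      rw [show m j + (e j - m j) = e j by simp only [m]; omega]
  · rw [show algebraMap A B b = algebraMap A B (![a, b] 1) from rfl, hf, mul_left_comm,
      ← Finset.prod_mul_distrib]
    simp only [← pow_add]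
    congr 1
    exact Finset.prod_congr rfl fun j _ => by
      rw [show m j + (f j - m j) = f j by simp only [m]; omega]
  · by_contra hne
    obtain ⟨q, hq, hle⟩ := Ideal.exists_le_maximal _ hne
    have ha' := hle (Ideal.subset_span (Or.inl rfl))
    have hb' := hle (Ideal.subset_span (Or.inr rfl))
    have key : ∀ (u : Bˣ) (g : J → ℕ), (u : B) * ∏ j, π j ^ g j ∈ q → ∃ j, g j ≠ 0 ∧ π j ∈ q := by
      intro u g h
      rcases hq.isPrime.mem_or_mem h with h | h
      · exact absurd (Ideal.eq_top_of_isUnit_mem q h u.isUnit) hq.ne_top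
      · obtain ⟨j, -, hj⟩ := (Ideal.IsPrime.prod_mem_iff (hp := hq.isPrime)).1 h
        refine ⟨j, fun h0 => hq.ne_top ?_, ?_⟩
        · rw [h0, pow_zero] at hj; exact (Ideal.eq_top_iff_one q).2 hj
        · exact hq.isPrime.mem_of_pow_mem _ hj
    obtain ⟨i, hi, hiq⟩ := key _ _ ha'
    obtain ⟨j, hj, hjq⟩ := key _ _ hb'
    by_cases hij : i = j
    · subst hij; simp only [m] at hi hj; omega
    · refine hq.ne_top (eq_top_iff.2 ?_)
      rw [← hcop i j hij, Ideal.span_le]
      rintro x (rfl | rfl)
      exacts [hiq, hjq]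

theorem exists_bound' (hA : ringKrullDim A = 1) (a b : A) (ha : a ∈ nonZeroDivisors A)
    (ham : a ∈ maximalIdeal A) (hb : b ∈ nonZeroDivisors A) :
    ∃ n : ℕ, ∀ (R' : Type u) [CommRing R'] [Algebra A R'], Function.Injective (algebraMap A R') →
      Module.Finite A R' → ∀ (m : ℕ) (c : R'), algebraMap A R' b = algebraMap A R' a ^ m * c → m ≤ n :=
  exists_bound hA ham ha ham ha hb

end Groth.Agent.TameAlg50
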