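import Groth.Agent.TameAlg50.FacExt
import Groth.Prelude.Def_Tame

/-! The tame symbol as the intrinsic product. -/

set_option autoImplicit false
set_option linter.unusedSectionVars false
set_option linter.style.haveILetI false

universe u

namespace Groth.Agent.TameAlg50

open IsLocalRing

variable {A : Type u} [CommRing A] [IsNoetherianRing A] [IsLocalRing A]

/-- An element of the maximal ideal which is regular on a finite extension makes it an `Ext`. -/
theorem ext_of_regular (hA : ringKrullDim A = 1) {B : Type u} [CommRing B] [Algebra A B]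
    (hB : CycAlg.IsFinExt A B (maximalIdeal A)) {a : A} (ham : a ∈ maximalIdeal A)
    (ha : IsSMulRegular B a) : Ext A B where
  finExt := hB
  regular c hc := fun x y e => by
    obtain ⟨n, hn⟩ := exists_pow_le_span hA hc
    obtain ⟨r, hr⟩ := Ideal.mem_span_singleton'.1 (hn (Ideal.pow_mem_pow ham n))
    refine ha.pow n ?_
    simp only at e ⊢
    rw [← hr, mul_smul, mul_smul, e]

/-- Elements which are non-zero-divisors at all maximal ideals. -/
theorem regular_of_local {B : Type u} [CommRing B] [Algebra A B] {a : A}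
    (h : ∀ q : MaximalSpectrum B, algebraMap A (Localization.AtPrime q.asIdeal) a ∈
      nonZeroDivisors (Localization.AtPrime q.asIdeal)) : IsSMulRegular B a := by
  intro x y e
  simp only at e
  refine MaximalSpectrum.toPiLocalization_injective (R := B) (funext fun q => ?_)
  refine (mul_cancel_left_mem_nonZeroDivisors (h q)).1 ?_
  simp only [MaximalSpectrum.toPiLocalization_apply_apply]
  rw [IsScalarTower.algebraMap_apply A B, ← map_mul, ← map_mul, ← Algebra.smul_def, ← Algebra.smul_def, e]

theorem finite_norm {B : Type u} [CommRing B] [Algebra A B] [Module.Finite A B] (q : MaximalSpectrum B)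
    [IsLocalHom (algebraMap A (Localization.AtPrime q.asIdeal))]
    {x : ResidueField (Localization.AtPrime q.asIdeal)} (hx : x ≠ 0) :
    Algebra.norm (ResidueField A) x ≠ 0 :=
  haveI := finite_residue (A := A) q
  Algebra.norm_ne_zero_iff.2 hx

section Data

variable {a b : A} (D : CycAlg.TameData A a b)

theorem facAll_data : FacAll D.B ![a, b] := fun q =>
  ⟨D.π q, D.π_mem q, Fin.forall_fin_two.2 ⟨⟨D.u₁ q, D.e₁ q, D.fac₁ q⟩, ⟨D.u₂ q, D.e₂ q, D.fac₂ q⟩⟩⟩

theorem value_eq_val :
    D.value = (haveI := D.isFinExt.2.1; val A D.B a b) := by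
  haveI := D.isFinExt.2.1
  refine finprod_congr fun q => ?_
  haveI := D.isLocalHom q
  rw [CycAlg.TameData.localFactor, ← map_pow,
    ← tame_eq_factor (D.π_mem q) (D.u₁ q) (D.u₂ q) (D.e₁ q) (D.e₂ q) (D.fac₁ q) (D.fac₂ q)]

end Data

theorem val_units {B : Type u} [CommRing B] [Algebra A B] [Module.Finite A B] {a b : A}
    (ha : IsUnit a) (hb : IsUnit b) : val A B a b = 1 := by
  refine finprod_eq_one_of_forall_eq_one fun q => ?_
  haveI := isLocalHom_atPrime (A := A) q
  rw [tame_map_units (ha.map _) (hb.map _), map_one]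

theorem ext_data (hA : ringKrullDim A = 1) {a b : A} (D : CycAlg.TameData A a b)
    (hn : ¬ (IsUnit a ∧ IsUnit b)) : Ext A D.B := by
  have key : ∀ (c : A) (u : (q : MaximalSpectrum D.B) → (Localization.AtPrime q.asIdeal)ˣ)
      (e : MaximalSpectrum D.B → ℕ),
      (∀ q, algebraMap A (Localization.AtPrime q.asIdeal) c = (u q : Localization.AtPrime q.asIdeal) * D.π q ^ e q) →
      IsSMulRegular D.B c := fun c u e he => regular_of_local fun q =>
    (he q).symm ▸ mul_mem (u q).isUnit.mem_nonZeroDivisors (pow_mem (D.π_mem q) _)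
  rcases not_and_or.1 hn with h | h
  · exact ext_of_regular hA D.isFinExt ((mem_maximalIdeal a).2 h) (key a _ _ D.fac₁)
  · exact ext_of_regular hA D.isFinExt ((mem_maximalIdeal b).2 h) (key b _ _ D.fac₂)

/-- The value does not depend on the extension. -/
theorem val_indep (hA : ringKrullDim A = 1) {a b : A} (ha : a ∈ nonZeroDivisors A)
    (hb : b ∈ nonZeroDivisors A) (B C : Type u) [CommRing B] [CommRing C] [Algebra A B] [Algebra A C]
    [Module.Finite A B] [Module.Finite A C] (hB : Ext A B) (hC : Ext A C)
    (hfB : FacAll B ![a, b]) (hfC : FacAll C ![a, b]) : val A B a b = val A C a b := by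
  by_cases hu : IsUnit a ∧ IsUnit b
  · rw [val_units hu.1 hu.2, val_units hu.1 hu.2]
  obtain ⟨t, htm, ht⟩ : ∃ t ∈ maximalIdeal A, t ∈ nonZeroDivisors A := by
    rcases not_and_or.1 hu with h | h
    · exact ⟨a, (mem_maximalIdeal a).2 h, ha⟩
    · exact ⟨b, (mem_maximalIdeal b).2 h, hb⟩
  obtain ⟨f, hf⟩ := exists_emb htm ht B hB
  obtain ⟨g, hg⟩ := exists_emb htm ht C hC
  let E := f.range ⊔ g.range
  haveI : Module.Finite A f.range := Module.Finite.of_surjective f.rangeRestrict.toLinearMap f.rangeRestrict_surjective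
  haveI : Module.Finite A g.range := Module.Finite.of_surjective g.rangeRestrict.toLinearMap g.rangeRestrict_surjective
  haveI : Module.Finite A E := Subalgebra.finite_sup _ _
  have hE : Ext A E := ext_subalgebra hA E
  let i : B →ₐ[A] E := (Subalgebra.inclusion le_sup_left).comp f.rangeRestrict
  let j : C →ₐ[A] E := (Subalgebra.inclusion le_sup_right).comp g.rangeRestrict
  have hB' : val A B a b = val A E a b := by
    letI := i.toRingHom.toAlgebra
    haveI : IsScalarTower A B E := IsScalarTower.of_algebraMap_eq fun x => (i.commutes x).symm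
    exact val_refine hA hB hE ha hb hfB
  have hC' : val A C a b = val A E a b := by
    letI := j.toRingHom.toAlgebra
    haveI : IsScalarTower A C E := IsScalarTower.of_algebraMap_eq fun x => (j.commutes x).symm
    exact val_refine hA hC hE ha hb hfC
  rw [hB', hC']

theorem value_indep (hA : ringKrullDim A = 1) {a b : A} (ha : a ∈ nonZeroDivisors A)
    (hb : b ∈ nonZeroDivisors A) (D D' : CycAlg.TameData A a b) : D.value = D'.value := by
  haveI := D.isFinExt.2.1
  haveI := D'.isFinExt.2.1
  rw [value_eq_val, value_eq_val]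
  by_cases hu : IsUnit a ∧ IsUnit b
  · rw [val_units hu.1 hu.2, val_units hu.1 hu.2]
  exact val_indep hA ha hb D.B D'.B (ext_data hA D hu) (ext_data hA D' hu) (facAll_data D) (facAll_data D')

/-- The tame symbol can be computed on any extension with common factorizations. -/
theorem tameSymbol_eq_val (hA : ringKrullDim A = 1) {a b : A} (ha : a ∈ nonZeroDivisors A)
    (hb : b ∈ nonZeroDivisors A) (B : Type u) [CommRing B] [Algebra A B] [Module.Finite A B]
    (hB : Ext A B) (hf : FacAll B ![a, b]) : CycAlg.tameSymbol A a b = val A B a b := by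
  classical
  choose π hπ h using hf
  choose u e hu using h
  let D : CycAlg.TameData A a b :=
    { B := B
      isFinExt := hB.finExt
      isLocalHom := fun q => isLocalHom_atPrime q
      π := π
      π_mem := hπ
      u₁ := fun q => u q 0
      u₂ := fun q => u q 1
      e₁ := fun q => e q 0
      e₂ := fun q => e q 1
      fac₁ := fun q => hu q 0
      fac₂ := fun q => hu q 1 }
  rw [CycAlg.tameSymbol, dif_pos ⟨D⟩, value_indep hA ha hb _ D, value_eq_val]

/-- Extensions with common factorizations exist. -/
theorem exists_ext_fac (hA : ringKrullDim A = 1) {ι : Type*} [Finite ι] (a : ι → A)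
    (ha : ∀ i, a i ∈ nonZeroDivisors A) :
    ∃ (B : Type u) (_ : CommRing B) (_ : Algebra A B) (_ : Module.Finite A B), Ext A B ∧ FacAll B a := by
  by_cases hu : ∀ i, IsUnit (a i)
  · refine ⟨A, inferInstance, inferInstance, inferInstance, Ext.self, fun q =>
      ⟨1, one_mem _, fun i => ⟨((hu i).map (algebraMap A (Localization.AtPrime q.asIdeal))).unit, 0, ?_⟩⟩⟩
    rw [pow_zero, mul_one]
    rfl
  push Not at hu
  obtain ⟨i, hi⟩ := hu
  obtain ⟨B, J, hJ, π, hfin, hπ, hcop, hfac⟩ :=
    exists_facExt hA ((mem_maximalIdeal (a i)).2 hi) (ha i) a ha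
  exact ⟨B, inferInstance, inferInstance, hfin, ext_subalgebra hA B, facAll_of π hπ hcop a hfac⟩

theorem facAll_sub {B : Type u} [CommRing B] [Algebra A B] {ι κ : Type*} {a : ι → A} {b : κ → A}
    (hf : FacAll B a) (h : ∀ k, ∃ i, b k = a i) : FacAll B b := fun q => by
  obtain ⟨π, hπ, hf⟩ := hf q
  refine ⟨π, hπ, fun k => ?_⟩
  obtain ⟨i, hi⟩ := h k
  obtain ⟨w, e, he⟩ := hf i
  exact ⟨w, e, (congrArg (algebraMap A (Localization.AtPrime q.asIdeal)) hi).trans he⟩

end Groth.Agent.TameAlg50
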