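import Groth.Agent.TameAlg50.Symbol

/-! The laws of the tame symbol. -/

set_option autoImplicit false
set_option linter.unusedSectionVars false
set_option linter.style.haveILetI false

universe u

namespace Groth.Agent.TameAlg50

open IsLocalRing

variable {A : Type u} [CommRing A] [IsNoetherianRing A] [IsLocalRing A]

/-- The length over `A` is the length at the closed point. -/
theorem locLen_closed (q : MaximalSpectrum A) (M : Type u) [AddCommGroup M] [Module A M] :
    Len90.locLen q.asIdeal M = Module.length A M := by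
  have hunit : ∀ x : q.asIdeal.primeCompl, IsUnit (x : A) := fun x =>
    notMem_maximalIdeal.1 fun h => x.2 ((eq_maximalIdeal q.isMaximal).symm.le h)
  have hsurj : Function.Surjective (algebraMap A (Localization.AtPrime q.asIdeal)) :=
    (IsLocalization.atUnits A q.asIdeal.primeCompl (S := Localization.AtPrime q.asIdeal)
      (fun x hx => hunit ⟨x, hx⟩)).surjective
  haveI : IsLocalizedModule q.asIdeal.primeCompl (LinearMap.id : M →ₗ[A] M) :=
    { map_units := fun x => by
        rw [Module.End.isUnit_iff]
        obtain ⟨v, hv⟩ := hunit x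
        constructor
        · intro m m' e
          simp only [Module.algebraMap_end_apply, ← hv] at e
          simpa [smul_smul] using congrArg ((↑v⁻¹ : A) • ·) e
        · intro m
          exact ⟨(↑v⁻¹ : A) • m, by simp [← hv, smul_smul]⟩
      surj := fun m => ⟨⟨m, 1⟩, by simp⟩
      exists_of_eq := fun h => ⟨1, by simpa using h⟩ }
  rw [Len90.locLen, ← Module.length_eq_of_surjective (R := Localization.AtPrime q.asIdeal) hsurj]
  exact (IsLocalizedModule.iso q.asIdeal.primeCompl (LinearMap.id : M →ₗ[A] M)).length_eq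

theorem ordN_closed (q : MaximalSpectrum A) (a : A) :
    ordN (Localization.AtPrime q.asIdeal) (algebraMap A (Localization.AtPrime q.asIdeal) a) =
      (Module.length A (A ⧸ Ideal.span {a})).toNat := by
  rw [ordN, ord_localization, locLen_closed]

theorem deg_closed {B : Type u} [CommRing B] [Algebra A B] [Module.Finite A B] (q : MaximalSpectrum A)
    (P : MaximalSpectrum B) [IsLocalHom (algebraMap A (Localization.AtPrime P.asIdeal))]
    (h : q.asIdeal = P.asIdeal.comap (algebraMap A B)) :
    deg q P h = Module.finrank (ResidueField A) (ResidueField (Localization.AtPrime P.asIdeal)) := by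
  have hunit : ∀ x : q.asIdeal.primeCompl, IsUnit (x : A) := fun x =>
    notMem_maximalIdeal.1 fun h => x.2 ((eq_maximalIdeal q.isMaximal).symm.le h)
  let α := IsLocalization.atUnits A q.asIdeal.primeCompl (S := Localization.AtPrime q.asIdeal)
      (fun x hx => hunit ⟨x, hx⟩)
  letI := (locMap q P h).toAlgebra
  haveI : IsLocalHom (algebraMap (Localization.AtPrime q.asIdeal) (Localization.AtPrime P.asIdeal)) :=
    Localization.isLocalHom_localRingHom q.asIdeal P.asIdeal (algebraMap A B) h
  symm
  refine Algebra.finrank_eq_of_equiv_equiv (ResidueField.mapEquiv α.toRingEquiv) (RingEquiv.refl _) ?_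
  refine RingHom.ext fun x => ?_
  obtain ⟨x, rfl⟩ := residue_surjective x
  show algebraMap (ResidueField (Localization.AtPrime q.asIdeal)) (ResidueField (Localization.AtPrime P.asIdeal))
      (residue _ (α x)) = residue _ (algebraMap A (Localization.AtPrime P.asIdeal) x)
  show residue _ (locMap q P h (α x)) = _
  congr 1
  rw [show (α x : Localization.AtPrime q.asIdeal) = algebraMap A _ x from α.commutes x,
    Localization.localRingHom_to_map, ← IsScalarTower.algebraMap_apply]

/-- The degree-weighted sum of the orders is the length. -/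
theorem sum_ord (hA : ringKrullDim A = 1) (B : Type u) [CommRing B] [Algebra A B] [Module.Finite A B]
    [Fintype (MaximalSpectrum B)]
    [hloc : ∀ P : MaximalSpectrum B, IsLocalHom (algebraMap A (Localization.AtPrime P.asIdeal))]
    (hB : Ext A B) {a : A} (ha : a ∈ nonZeroDivisors A) :
    (Module.length A (A ⧸ Ideal.span {a})).toNat =
      ∑ P : MaximalSpectrum B, Module.finrank (ResidueField A) (ResidueField (Localization.AtPrime P.asIdeal)) *
        ordN (Localization.AtPrime P.asIdeal) (algebraMap A (Localization.AtPrime P.asIdeal) a) := by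
  let q : MaximalSpectrum A := ⟨maximalIdeal A, inferInstance⟩
  have hS : ∀ P : MaximalSpectrum B, P ∈ (Finset.univ : Finset _) ↔
      q.asIdeal = P.asIdeal.comap (algebraMap A B) := fun P =>
    ⟨fun _ => (eq_maximalIdeal (below A P).isMaximal).symm, fun _ => Finset.mem_univ _⟩
  rw [← ordN_closed q, ord_fibre hA Ext.self hB q Finset.univ hS ha, ← Finset.sum_attach Finset.univ
    (fun P : MaximalSpectrum B => Module.finrank (ResidueField A) (ResidueField (Localization.AtPrime P.asIdeal)) *
        ordN (Localization.AtPrime P.asIdeal) (algebraMap A (Localization.AtPrime P.asIdeal) a))]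
  exact Finset.sum_congr rfl fun P _ => by rw [deg_closed]

theorem norm_residue {B : Type u} [CommRing B] [Algebra A B] (P : MaximalSpectrum B)
    [IsLocalHom (algebraMap A (Localization.AtPrime P.asIdeal))] (c : A) (n : ℕ) :
    Algebra.norm (ResidueField A)
      (residue (Localization.AtPrime P.asIdeal) (algebraMap A (Localization.AtPrime P.asIdeal) c) ^ n) =
      residue A c ^ (Module.finrank (ResidueField A) (ResidueField (Localization.AtPrime P.asIdeal)) * n) := by
  rw [map_pow, pow_mul, ← Algebra.norm_algebraMap (R := ResidueField A)]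
  rfl

section Laws

variable (hA : ringKrullDim A = 1)
include hA

theorem symbol_ne_zero {a b : A} (ha : a ∈ nonZeroDivisors A) (hb : b ∈ nonZeroDivisors A) :
    CycAlg.tameSymbol A a b ≠ 0 := by
  obtain ⟨B, _, _, _, hB, hf⟩ := exists_ext_fac hA ![a, b] (Fin.forall_fin_two.2 ⟨ha, hb⟩)
  haveI : Finite (MaximalSpectrum B) := finite_maximalSpectrum (A := A)
  cases nonempty_fintype (MaximalSpectrum B)
  rw [tameSymbol_eq_val hA ha hb B hB hf, val, finprod_eq_prod_of_fintype, Finset.prod_ne_zero_iff]
  intro q _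
  haveI := isLocalHom_atPrime (A := A) q
  refine finite_norm q (tame_ne_zero ?_)
  obtain ⟨π, hπ, h⟩ := hf q
  exact ⟨π, hπ, Fin.forall_fin_two.2 ⟨h 0, h 1⟩⟩

theorem symbol_mul {a a' b : A} (ha : a ∈ nonZeroDivisors A) (ha' : a' ∈ nonZeroDivisors A)
    (hb : b ∈ nonZeroDivisors A) :
    CycAlg.tameSymbol A (a * a') b = CycAlg.tameSymbol A a b * CycAlg.tameSymbol A a' b ∧
      CycAlg.tameSymbol A b (a * a') = CycAlg.tameSymbol A b a * CycAlg.tameSymbol A b a' := by
  obtain ⟨B, _, _, _, hB, hf⟩ := exists_ext_fac hA ![a, a', b] (by intro i; fin_cases i <;> assumption)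
  haveI : Finite (MaximalSpectrum B) := finite_maximalSpectrum (A := A)
  cases nonempty_fintype (MaximalSpectrum B)
  have hf' : FacAll B ![a * a', b] ∧ FacAll B ![b, a * a'] := by
    constructor <;> intro q <;> obtain ⟨π, hπ, h⟩ := hf q <;> refine ⟨π, hπ, ?_⟩
    all_goals
      obtain ⟨w, e, he⟩ := h 0
      obtain ⟨w', e', he'⟩ := h 1
      have hp : ∃ (v : (Localization.AtPrime q.asIdeal)ˣ) (k : ℕ),
          algebraMap A (Localization.AtPrime q.asIdeal) (a * a') = (v : Localization.AtPrime q.asIdeal) * π ^ k :=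
        ⟨w * w', e + e', by
          rw [map_mul, Units.val_mul, pow_add]
          simp only [locs, Matrix.cons_val_zero, Matrix.cons_val_one] at he he'
          rw [he, he']; ring⟩
    · exact Fin.forall_fin_two.2 ⟨hp, h 2⟩
    · exact Fin.forall_fin_two.2 ⟨h 2, hp⟩
  have hsub : ∀ c d, (c ∈ [a, a', b]) → (d ∈ [a, a', b]) → FacAll B ![c, d] := by
    intro c d hc hd
    refine facAll_sub hf (Fin.forall_fin_two.2 ⟨?_, ?_⟩)
    · simp only [List.mem_cons, List.not_mem_nil, or_false] at hc
      rcases hc with rfl | rfl | rfl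
      exacts [⟨0, rfl⟩, ⟨1, rfl⟩, ⟨2, rfl⟩]
    · simp only [List.mem_cons, List.not_mem_nil, or_false] at hd
      rcases hd with rfl | rfl | rfl
      exacts [⟨0, rfl⟩, ⟨1, rfl⟩, ⟨2, rfl⟩]
  rw [tameSymbol_eq_val hA (mul_mem ha ha') hb B hB hf'.1, tameSymbol_eq_val hA hb (mul_mem ha ha') B hB hf'.2,
    tameSymbol_eq_val hA ha hb B hB (hsub a b (by simp) (by simp)),
    tameSymbol_eq_val hA ha' hb B hB (hsub a' b (by simp) (by simp)),
    tameSymbol_eq_val hA hb ha B hB (hsub b a (by simp) (by simp)),
    tameSymbol_eq_val hA hb ha' B hB (hsub b a' (by simp) (by simp))]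
  simp only [val, finprod_eq_prod_of_fintype, ← Finset.prod_mul_distrib]
  refine ⟨Finset.prod_congr rfl fun q _ => ?_, Finset.prod_congr rfl fun q _ => ?_⟩
  all_goals
    haveI := isLocalHom_atPrime (A := A) q
    have hq : Fac (Localization.AtPrime q.asIdeal) ![algebraMap A (Localization.AtPrime q.asIdeal) a,
        algebraMap A (Localization.AtPrime q.asIdeal) a', algebraMap A (Localization.AtPrime q.asIdeal) b] := by
      obtain ⟨π, hπ, h⟩ := hf q
      exact ⟨π, hπ, by intro i; fin_cases i <;> [exact h 0; exact h 1; exact h 2]⟩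
    rw [map_mul (algebraMap A (Localization.AtPrime q.asIdeal)), ← map_mul (Algebra.norm (ResidueField A))]
  · rw [(tame_mul hq).1]
  · rw [(tame_mul hq).2]

theorem symbol_self {b : A} (hb : b ∈ nonZeroDivisors A) :
    CycAlg.tameSymbol A b b = (-1) ^ (Module.length A (A ⧸ Ideal.span {b})).toNat := by
  obtain ⟨B, _, _, _, hB, hf⟩ := exists_ext_fac hA ![b, b] (Fin.forall_fin_two.2 ⟨hb, hb⟩)
  haveI : Finite (MaximalSpectrum B) := finite_maximalSpectrum (A := A)
  cases nonempty_fintype (MaximalSpectrum B)
  haveI := fun P : MaximalSpectrum B => isLocalHom_atPrime (A := A) P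
  rw [tameSymbol_eq_val hA hb hb B hB hf, sum_ord hA B hB hb, ← Finset.prod_pow_eq_pow_sum, val,
    finprod_eq_prod_of_fintype]
  refine Finset.prod_congr rfl fun q _ => ?_
  have hq : Fac (Localization.AtPrime q.asIdeal) ![algebraMap A (Localization.AtPrime q.asIdeal) b,
      algebraMap A (Localization.AtPrime q.asIdeal) b] := by
    obtain ⟨π, hπ, h⟩ := hf q
    exact ⟨π, hπ, Fin.forall_fin_two.2 ⟨h 0, h 1⟩⟩
  rw [tame_self hq]
  have := norm_residue (A := A) q (-1) (ordN (Localization.AtPrime q.asIdeal) (algebraMap A _ b))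
  simpa using this

theorem symbol_unit (c : Aˣ) {b : A} (hb : b ∈ nonZeroDivisors A) :
    CycAlg.tameSymbol A (c : A) b = residue A (c : A) ^ (Module.length A (A ⧸ Ideal.span {b})).toNat := by
  obtain ⟨B, _, _, _, hB, hf⟩ :=
    exists_ext_fac hA ![(c : A), b] (Fin.forall_fin_two.2 ⟨c.isUnit.mem_nonZeroDivisors, hb⟩)
  haveI : Finite (MaximalSpectrum B) := finite_maximalSpectrum (A := A)
  cases nonempty_fintype (MaximalSpectrum B)
  haveI := fun P : MaximalSpectrum B => isLocalHom_atPrime (A := A) P
  rw [tameSymbol_eq_val hA c.isUnit.mem_nonZeroDivisors hb B hB hf, sum_ord hA B hB hb,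
    ← Finset.prod_pow_eq_pow_sum, val, finprod_eq_prod_of_fintype]
  refine Finset.prod_congr rfl fun q _ => ?_
  have hq : Fac (Localization.AtPrime q.asIdeal) ![algebraMap A (Localization.AtPrime q.asIdeal) b] := by
    obtain ⟨π, hπ, h⟩ := hf q
    exact ⟨π, hπ, by intro i; fin_cases i; exact h 1⟩
  rw [← norm_residue, show algebraMap A (Localization.AtPrime q.asIdeal) (c : A) =
    ((Units.map (algebraMap A (Localization.AtPrime q.asIdeal) : A →* _) c : (Localization.AtPrime q.asIdeal)ˣ) :
      Localization.AtPrime q.asIdeal) from rfl, tame_unit_left _ hq]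

theorem symbol_steinberg {a b : A} (ha : a ∈ nonZeroDivisors A) (hb : b ∈ nonZeroDivisors A)
    (hba : b - a ∈ nonZeroDivisors A) :
    CycAlg.tameSymbol A a (b - a) * CycAlg.tameSymbol A b b =
      CycAlg.tameSymbol A b (b - a) * CycAlg.tameSymbol A a b := by
  obtain ⟨B, _, _, _, hB, hf⟩ := exists_ext_fac hA ![a, b, b - a] (by intro i; fin_cases i <;> assumption)
  haveI : Finite (MaximalSpectrum B) := finite_maximalSpectrum (A := A)
  cases nonempty_fintype (MaximalSpectrum B)
  have hsub : ∀ i j : Fin 3, FacAll B ![![a, b, b - a] i, ![a, b, b - a] j] := fun i j =>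
    facAll_sub hf (Fin.forall_fin_two.2 ⟨⟨i, rfl⟩, ⟨j, rfl⟩⟩)
  rw [tameSymbol_eq_val hA ha hba B hB (hsub 0 2), tameSymbol_eq_val hA hb hb B hB (hsub 1 1),
    tameSymbol_eq_val hA hb hba B hB (hsub 1 2), tameSymbol_eq_val hA ha hb B hB (hsub 0 1)]
  simp only [val, finprod_eq_prod_of_fintype, ← Finset.prod_mul_distrib]
  refine Finset.prod_congr rfl fun q _ => ?_
  haveI := isLocalHom_atPrime (A := A) q
  have hq : Fac (Localization.AtPrime q.asIdeal) ![algebraMap A (Localization.AtPrime q.asIdeal) a,
      algebraMap A (Localization.AtPrime q.asIdeal) b,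
      algebraMap A (Localization.AtPrime q.asIdeal) b - algebraMap A (Localization.AtPrime q.asIdeal) a] := by
    obtain ⟨π, hπ, h⟩ := hf q
    refine ⟨π, hπ, ?_⟩
    intro i
    fin_cases i <;> [exact h 0; exact h 1; skip]
    obtain ⟨w, e, he⟩ := h 2
    exact ⟨w, e, (map_sub _ b a).symm.trans he⟩
  rw [map_sub, ← map_mul, ← map_mul, tame_steinberg hq]

end Laws

end Groth.Agent.TameAlg50
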