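import Groth.Agent.TameAlg50.Ext
import Groth.Agent.VarDim1.KrullAkizuki
import Mathlib.RingTheory.Localization.FractionRing
import Mathlib.RingTheory.DedekindDomain.PID
import Mathlib.RingTheory.UniqueFactorizationDomain.Multiplicity
import Mathlib.RingTheory.Polynomial.ScaleRoots
import Mathlib.RingTheory.Ideal.Quotient.Operations
import Mathlib.RingTheory.Artinian.Ring

/-! The integral closure of a one-dimensional local ring in its total ring of fractions. -/

set_option autoImplicit false
set_option linter.unusedSectionVars false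
set_option linter.style.haveILetI false

universe u

namespace Groth.Agent.TameAlg50

open IsLocalRing

variable (A : Type u) [CommRing A]

/-- The minimal points. -/
abbrev Mn : Type u := {p : PrimeSpectrum A // p.asIdeal ∈ minimalPrimes A}

/-- The function field of a component. -/
abbrev Fld {A : Type u} [CommRing A] (p : Mn A) : Type u := FractionRing (A ⧸ p.1.asIdeal)

variable {A}

theorem isUnit_fld (p : Mn A) (s : nonZeroDivisors A) : IsUnit (algebraMap A (Fld p) s) := by
  refine IsUnit.mk0 _ fun h => ?_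
  rw [IsScalarTower.algebraMap_apply A (A ⧸ p.1.asIdeal), IsFractionRing.to_map_eq_zero_iff,
    Ideal.Quotient.algebraMap_eq, Ideal.Quotient.eq_zero_iff_mem] at h
  exact Set.disjoint_left.1 (Ideal.disjoint_nonZeroDivisors_of_mem_minimalPrimes p.2) h s.2

/-- The projection to a component. -/
noncomputable def proj (p : Mn A) : FractionRing A →ₐ[A] Fld p :=
  IsLocalization.liftAlgHom (M := nonZeroDivisors A) (f := Algebra.ofId A (Fld p)) (isUnit_fld p)

theorem algebraMap_fld_eq_zero {p : Mn A} {x : A} :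
    algebraMap A (Fld p) x = 0 ↔ x ∈ p.1.asIdeal := by
  rw [IsScalarTower.algebraMap_apply A (A ⧸ p.1.asIdeal), IsFractionRing.to_map_eq_zero_iff,
    Ideal.Quotient.algebraMap_eq, Ideal.Quotient.eq_zero_iff_mem]

theorem isIntegral_fld_iff {p : Mn A} (x : Fld p) :
    IsIntegral A x ↔ IsIntegral (A ⧸ p.1.asIdeal) x :=
  ⟨IsIntegral.tower_top, fun h => isIntegral_trans x h⟩

theorem isNilpotent_of_proj {x : FractionRing A} (h : ∀ p : Mn A, proj p x = 0) : IsNilpotent x := by
  obtain ⟨c, s, rfl⟩ := IsLocalization.exists_mk'_eq (nonZeroDivisors A) x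
  have hc : IsNilpotent c := by
    rw [← mem_nilradical, nilradical, Ideal.zero_eq_bot, ← Ideal.sInf_minimalPrimes]
    refine Submodule.mem_sInf.2 fun q hq => ?_
    obtain ⟨p, rfl⟩ : ∃ p : Mn A, p.1.asIdeal = q := ⟨⟨⟨q, hq.1.1⟩, hq⟩, rfl⟩
    have h' := congrArg (proj p) (IsLocalization.mk'_spec (FractionRing A) c s)
    rw [map_mul, AlgHom.commutes, AlgHom.commutes, h p, zero_mul] at h'
    exact algebraMap_fld_eq_zero.1 h'.symm
  rw [show IsLocalization.mk' (FractionRing A) c s =
    algebraMap A (FractionRing A) c * IsLocalization.mk' (FractionRing A) 1 s by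
      rw [IsLocalization.mul_mk'_eq_mk'_of_mul, mul_one]]
  exact (Commute.all _ _).isNilpotent_mul_right (hc.map _)

theorem isIntegral_of_proj [IsNoetherianRing A] {x : FractionRing A}
    (h : ∀ p : Mn A, IsIntegral A (proj p x)) : IsIntegral A x := by
  classical
  haveI : Finite (Mn A) := by
    have := (minimalPrimes.finite_of_isNoetherianRing A).preimage
      (f := PrimeSpectrum.asIdeal) fun _ _ _ _ e => PrimeSpectrum.ext e
    exact this.to_subtype
  cases nonempty_fintype (Mn A)
  choose P hPm hP using h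
  let Q := ∏ p : Mn A, P p
  have hnil : IsNilpotent (Polynomial.aeval x Q) := isNilpotent_of_proj fun p => by
    rw [← Polynomial.aeval_algHom_apply, map_prod]
    exact Finset.prod_eq_zero (Finset.mem_univ p) (hP p)
  obtain ⟨N, hN⟩ := hnil
  exact ⟨Q ^ N, (Polynomial.monic_prod_of_monic _ _ fun p _ => hPm p).pow N, by
    rw [← Polynomial.aeval_def, map_pow, hN]⟩

theorem isIntegral_of_isNilpotent {K : Type u} [CommRing K] [Algebra A K] {x : K} (h : IsNilpotent x) :
    IsIntegral A x := by
  obtain ⟨n, hn⟩ := h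
  exact ⟨Polynomial.X ^ n, Polynomial.monic_X_pow n, by simp [hn]⟩

/-- An integral element whose components are units is a unit in the closure. -/
theorem isUnit_of_proj [IsNoetherianRing A] {x y : FractionRing A} (hx : IsIntegral A x)
    (hy : IsIntegral A y) (h : ∀ p : Mn A, proj p x * proj p y = 1) :
    ∃ z, IsIntegral A z ∧ x * z = 1 := by
  let S := integralClosure A (FractionRing A)
  have hn : IsNilpotent (x * y - 1) := isNilpotent_of_proj fun p => by
    rw [map_sub, map_mul, h p, map_one, sub_self]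
  have hn' : IsNilpotent (⟨x * y - 1, (hx.mul hy).sub isIntegral_one⟩ : S) :=
    (IsNilpotent.map_iff (f := S.val) Subtype.val_injective).1 hn
  obtain ⟨w, hw⟩ := hn'.isUnit_add_one
  refine ⟨y * (↑w⁻¹ : S), hy.mul (↑w⁻¹ : S).2, ?_⟩
  have h1 := congrArg Subtype.val (w.mul_inv)
  have h2 : ((w : S) : FractionRing A) = x * y := by
    rw [hw]
    show x * y - 1 + 1 = x * y
    ring
  rw [← mul_assoc, ← h2]
  exact h1

variable [IsNoetherianRing A] [IsLocalRing A]

section

variable (hA : ringKrullDim A = 1) {t : A} (htm : t ∈ maximalIdeal A) (ht : t ∈ nonZeroDivisors A)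

include hA htm ht

theorem mem_minimalPrimes_iff {q : Ideal A} [q.IsPrime] : q ∈ minimalPrimes A ↔ t ∉ q := by
  have : Ring.KrullDimLE 1 A := Ring.krullDimLE_iff.mpr hA.le
  refine ⟨fun h htq => (Ideal.disjoint_nonZeroDivisors_of_mem_minimalPrimes h).le_bot ⟨htq, ht⟩,
    fun h => (Ring.krullDimLE_one_iff.mp ‹_› q ‹_›).resolve_right fun hm => h ?_⟩
  rw [eq_maximalIdeal hm]
  exact htm

theorem isArtinianRing_fractionRing : IsArtinianRing (FractionRing A) := by
  haveI : IsNoetherianRing (FractionRing A) :=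
    IsLocalization.isNoetherianRing (nonZeroDivisors A) _ inferInstance
  rw [isArtinianRing_iff_krullDimLE_zero, Ring.krullDimLE_zero_iff]
  intro Q hQ
  obtain ⟨M, hM, hQM⟩ := Ideal.exists_le_maximal Q hQ.ne_top
  have key : ∀ R : Ideal (FractionRing A), R.IsPrime →
      R.comap (algebraMap A (FractionRing A)) ∈ minimalPrimes A := by
    intro R hR
    haveI := hR.comap (algebraMap A (FractionRing A))
    refine (mem_minimalPrimes_iff hA htm ht).2 fun htR => hR.ne_top ?_
    exact Ideal.eq_top_of_isUnit_mem _ htR (IsLocalization.map_units (FractionRing A) ⟨t, ht⟩)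
  have e : M.comap (algebraMap A (FractionRing A)) ≤ Q.comap (algebraMap A (FractionRing A)) :=
    (key M hM.isPrime).2 ⟨hQ.comap (algebraMap A (FractionRing A)), bot_le⟩ (Ideal.comap_mono hQM)
  have := Ideal.map_mono (f := algebraMap A (FractionRing A)) e
  rw [IsLocalization.map_comap (nonZeroDivisors A), IsLocalization.map_comap (nonZeroDivisors A)] at this
  rwa [le_antisymm hQM this]

/-- Components can be prescribed. -/
theorem proj_surjective (y : ∀ p : Mn A, Fld p) : ∃ x, ∀ p, proj p x = y p := by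
  classical
  haveI := isArtinianRing_fractionRing hA htm ht
  haveI : Finite (Mn A) := by
    have := (minimalPrimes.finite_of_isNoetherianRing A).preimage
      (f := PrimeSpectrum.asIdeal) fun _ _ _ _ e => PrimeSpectrum.ext e
    exact this.to_subtype
  let k : Mn A → Ideal (FractionRing A) := fun p => RingHom.ker (proj p)
  have hk : ∀ p, (k p).IsMaximal := fun p => by
    haveI : (k p).IsPrime := RingHom.ker_isPrime _
    exact IsArtinianRing.isMaximal_of_isPrime _
  have hsurj : ∀ p : Mn A, Function.Surjective (proj p) := by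
    intro p z
    obtain ⟨c, s, rfl⟩ := IsLocalization.exists_mk'_eq (nonZeroDivisors (A ⧸ p.1.asIdeal)) z
    obtain ⟨c, rfl⟩ := Ideal.Quotient.mk_surjective c
    obtain ⟨s0, hs0⟩ := Ideal.Quotient.mk_surjective (s : A ⧸ p.1.asIdeal)
    have hs : algebraMap A (Fld p) s0 ≠ 0 := fun h => by
      rw [algebraMap_fld_eq_zero, ← Ideal.Quotient.eq_zero_iff_mem, hs0] at h
      exact nonZeroDivisors.coe_ne_zero s h
    obtain ⟨w, hw⟩ := (hk p).exists_inv (x := algebraMap A (FractionRing A) s0) (by
      show proj p _ ≠ 0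
      rwa [AlgHom.commutes])
    obtain ⟨i, hi, hi'⟩ := hw
    have e : proj p w * algebraMap A (Fld p) s0 = 1 := by
      have := congrArg (proj p) hi'
      rwa [map_add, map_mul, map_one, AlgHom.commutes, show proj p i = 0 from hi, add_zero] at this
    refine ⟨algebraMap A (FractionRing A) c * w, ?_⟩
    rw [map_mul, AlgHom.commutes, eq_comm, IsLocalization.mk'_eq_iff_eq_mul, ← hs0]
    show algebraMap A (Fld p) c = algebraMap A (Fld p) c * proj p w * algebraMap A (Fld p) s0
    rw [mul_assoc, e, mul_one]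
  choose z hz using fun p => hsurj p (y p)
  have hcop : Pairwise fun p q => IsCoprime (k p) (k q) := by
    intro p q hpq
    rw [Ideal.isCoprime_iff_sup_eq]
    refine (hk p).coprime_of_ne (hk q) fun e => hpq ?_
    have := congrArg (Ideal.comap (algebraMap A (FractionRing A))) e
    refine Subtype.ext (PrimeSpectrum.ext ?_)
    ext a
    have h1 := SetLike.ext_iff.1 this a
    simp only [k, Ideal.mem_comap, RingHom.mem_ker, AlgHom.commutes, algebraMap_fld_eq_zero] at h1
    exact h1
  obtain ⟨x, hx⟩ := Ideal.exists_forall_sub_mem_ideal hcop z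
  refine ⟨x, fun p => ?_⟩
  have := hx p
  simp only [k, RingHom.mem_ker, map_sub, sub_eq_zero] at this
  rw [this, hz]

/-- The normalization of a component is a principal ideal ring with finitely many maximal ideals. -/
theorem exists_primes (p : Mn A) : ∃ (M : Type u) (_ : Fintype M) (g : M → Fld p),
    (∀ i, IsIntegral A (g i) ∧ g i ≠ 0) ∧
    (∀ i j, i ≠ j → ∃ r s, IsIntegral A r ∧ IsIntegral A s ∧ r * g i + s * g j = 1) ∧
    (∀ z : Fld p, IsIntegral A z → z ≠ 0 → ∃ (w w' : Fld p) (e : M → ℕ), IsIntegral A w ∧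
      IsIntegral A w' ∧ w * w' = 1 ∧ z = w * ∏ i, g i ^ e i) ∧
    ∀ z : Fld p, IsIntegral A z → z ≠ 0 → ∀ i, ∃ n : ℕ, ∀ m c, IsIntegral A c →
      z = c * g i ^ m → m ≤ n := by
  classical
  haveI : Ring.KrullDimLE 1 A := Ring.krullDimLE_iff.mpr hA.le
  let A' := A ⧸ p.1.asIdeal
  haveI : Ring.KrullDimLE 1 A' := Ring.krullDimLE_iff.mpr
    ((ringKrullDim_le_of_surjective (Ideal.Quotient.mk p.1.asIdeal) Ideal.Quotient.mk_surjective).trans hA.le)
  let S := integralClosure A' (Fld p)
  haveI : IsDedekindDomain S := VarDim1.isDedekindDomain_integralClosure (Fld p)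
  let tS : S := algebraMap A' S (Ideal.Quotient.mk p.1.asIdeal t)
  have hAS : Function.Injective (algebraMap A' S) := fun x y e =>
    IsFractionRing.injective A' (Fld p) (congrArg Subtype.val e)
  have htS : tS ≠ 0 := fun h => (mem_minimalPrimes_iff hA htm ht).1 p.2 <| by
    rw [← Ideal.Quotient.eq_zero_iff_mem]
    exact (map_eq_zero_iff _ hAS).1 h
  have hall : ∀ P : Ideal S, P.IsMaximal → tS ∈ P := by
    intro P hP
    have hm := Ideal.isMaximal_comap_of_isIntegral_of_isMaximal (R := A') P
    have hm' := Ideal.comap_isMaximal_of_surjective (Ideal.Quotient.mk p.1.asIdeal)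
      Ideal.Quotient.mk_surjective (K := P.comap (algebraMap A' S))
    have : t ∈ (P.comap (algebraMap A' S)).comap (Ideal.Quotient.mk p.1.asIdeal) := by
      rw [eq_maximalIdeal hm']; exact htm
    exact this
  have hfin : {P : Ideal S | P.IsMaximal}.Finite := by
    refine (VarDim1.finite_setOf_prime_ge (Fld p) S (I := Ideal.span {tS}) ?_).subset ?_
    · simpa using htS
    · exact fun P hP => ⟨hP.isPrime, (Ideal.span_singleton_le_iff_mem _).2 (hall P hP)⟩
  haveI : IsPrincipalIdealRing S := IsPrincipalIdealRing.of_finite_maximals hfin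
  haveI := hfin.fintype
  let g : {P : Ideal S | P.IsMaximal} → S := fun P => Submodule.IsPrincipal.generator P.1
  have hg : ∀ P : {P : Ideal S | P.IsMaximal}, Ideal.span {g P} = P.1 := fun P =>
    Ideal.span_singleton_generator _
  have hg0 : ∀ P, g P ≠ 0 := fun P h => by
    have h' := hg P
    rw [h, Ideal.span_singleton_zero] at h'
    exact htS ((Submodule.mem_bot _).1 (h'.symm ▸ hall P.1 P.2 : tS ∈ (⊥ : Ideal S)))
  have hgp : ∀ P, Prime (g P) := fun P =>
    (Ideal.span_singleton_prime (hg0 P)).1 ((hg P).symm ▸ P.2.isPrime)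
  have hint : ∀ z : S, IsIntegral A (z : Fld p) := fun z => (isIntegral_fld_iff _).2 z.2
  refine ⟨_, inferInstance, fun P => (g P : Fld p), fun P => ⟨hint _, ?_⟩, ?_, ?_, ?_⟩
  · exact fun h => hg0 P (Subtype.ext h)
  · intro P Q hPQ
    have := Ideal.IsMaximal.coprime_of_ne P.2 Q.2 fun e => hPQ (Subtype.ext e)
    rw [← hg P, ← hg Q, ← Ideal.span_union, Set.singleton_union, Ideal.eq_top_iff_one,
      Ideal.mem_span_pair] at this
    obtain ⟨r, s, hrs⟩ := this
    exact ⟨r, s, hint r, hint s, congrArg Subtype.val hrs⟩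
  · intro z hz hz0
    have key : ∀ y : S, y ≠ 0 → ∃ (w : Sˣ) (e : {P : Ideal S | P.IsMaximal} → ℕ),
        y = (w : S) * ∏ P, g P ^ e P := by
      intro y
      induction y using UniqueFactorizationMonoid.induction_on_prime with
      | h₁ => exact fun h => absurd rfl h
      | h₂ y hy => exact fun _ => ⟨hy.unit, 0, by simp⟩
      | h₃ y q hy hq ih =>
        intro _
        obtain ⟨w, e, he⟩ := ih hy
        have hP : (Ideal.span {q}).IsMaximal :=
          ((Ideal.span_singleton_prime hq.ne_zero).2 hq).isMaximal (by simpa using hq.ne_zero)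
        let P : {P : Ideal S | P.IsMaximal} := ⟨_, hP⟩
        obtain ⟨v, hv⟩ := Ideal.span_singleton_eq_span_singleton.1 (hg P)
        refine ⟨v * w, Function.update e P (e P + 1), ?_⟩
        rw [he, ← hv, Units.val_mul]
        rw [Finset.prod_eq_mul_prod_sdiff_singleton_of_mem (Finset.mem_univ P) (fun Q => g Q ^ e Q),
          Finset.prod_eq_mul_prod_sdiff_singleton_of_mem (Finset.mem_univ P)
            (fun Q => g Q ^ Function.update e P (e P + 1) Q),
          Function.update_self,
          Finset.prod_congr rfl fun Q hQ => (by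
            rw [Function.update_of_ne (by simpa using hQ)] :
              g Q ^ Function.update e P (e P + 1) Q = g Q ^ e Q),
          pow_succ]
        ring
    obtain ⟨w, e, he⟩ := key ⟨z, (isIntegral_fld_iff z).1 hz⟩ fun h => hz0 (congrArg Subtype.val h)
    refine ⟨(w : S), (↑w⁻¹ : S), e, hint _, hint _, congrArg Subtype.val w.mul_inv, ?_⟩
    have := congrArg Subtype.val he
    simpa using this
  · intro z hz hz0 P
    let zS : S := ⟨z, (isIntegral_fld_iff z).1 hz⟩
    have hz' : zS ≠ 0 := fun h => hz0 (congrArg Subtype.val h)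
    refine ⟨multiplicity (g P) zS, fun m c hc h => ?_⟩
    refine (FiniteMultiplicity.of_prime_left (hgp P) hz').le_multiplicity_of_pow_dvd
      ⟨⟨c, (isIntegral_fld_iff c).1 hc⟩, Subtype.ext ?_⟩
    show z = ((g P : S) : Fld p) ^ m * c
    rw [h, mul_comm]

theorem exists_parameters : ∃ (J : Type u) (_ : Fintype J) (π : J → FractionRing A),
    (∀ j, IsIntegral A (π j) ∧ IsUnit (π j)) ∧
    (∀ i j, i ≠ j → ∃ r s, IsIntegral A r ∧ IsIntegral A s ∧ r * π i + s * π j = 1) ∧
    ∀ a ∈ nonZeroDivisors A, ∃ (v v' : FractionRing A) (e : J → ℕ), IsIntegral A v ∧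
      IsIntegral A v' ∧ v * v' = 1 ∧ algebraMap A (FractionRing A) a = v * ∏ j, π j ^ e j := by
  classical
  haveI := isArtinianRing_fractionRing hA htm ht
  haveI : Finite (Mn A) := by
    have := (minimalPrimes.finite_of_isNoetherianRing A).preimage
      (f := PrimeSpectrum.asIdeal) fun _ _ _ _ e => PrimeSpectrum.ext e
    exact this.to_subtype
  cases nonempty_fintype (Mn A)
  choose M fM g hg hcop hfac _ using exists_primes hA htm ht
  -- lift integral vectors
  have lift : ∀ y : ∀ p : Mn A, Fld p, (∀ p, IsIntegral A (y p)) →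
      ∃ x, IsIntegral A x ∧ ∀ p, proj p x = y p := fun y hy => by
    obtain ⟨x, hx⟩ := proj_surjective hA htm ht y
    exact ⟨x, isIntegral_of_proj fun p => (hx p).symm ▸ hy p, hx⟩
  have hupd : ∀ (p : Mn A) (z : Fld p) (y : ∀ q : Mn A, Fld q), IsIntegral A z →
      (∀ q, IsIntegral A (y q)) → ∀ q, IsIntegral A (Function.update y p z q) := by
    intro p z y hz hy q
    by_cases h : q = p
    · subst h; rwa [Function.update_self]
    · rw [Function.update_of_ne h]; exact hy q
  have hπ : ∀ j : Σ p, M p, ∃ x, IsIntegral A x ∧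
      ∀ q, proj q x = Function.update (fun q : Mn A => (1 : Fld q)) j.1 (g j.1 j.2) q := fun j =>
    lift _ (hupd _ _ _ (hg j.1 j.2).1 fun q => isIntegral_one)
  choose π hπi hπp using hπ
  have hunit : ∀ x : FractionRing A, (∀ q : Mn A, proj q x ≠ 0) → IsUnit x := by
    intro x hx
    by_contra hu
    obtain ⟨Q, hQ, hxQ⟩ := exists_max_ideal_of_mem_nonunits hu
    haveI hQc : (Q.comap (algebraMap A (FractionRing A))).IsPrime := hQ.isPrime.comap _
    have hmin : Q.comap (algebraMap A (FractionRing A)) ∈ minimalPrimes A :=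
      (mem_minimalPrimes_iff hA htm ht).2 fun htQ => hQ.ne_top
        (Ideal.eq_top_of_isUnit_mem _ htQ (IsLocalization.map_units (FractionRing A) ⟨t, ht⟩))
    obtain ⟨q, hq⟩ : ∃ q : Mn A, q.1.asIdeal = Q.comap (algebraMap A (FractionRing A)) :=
      ⟨⟨⟨_, hQc⟩, hmin⟩, rfl⟩
    refine hx q ?_
    obtain ⟨c, s, rfl⟩ := IsLocalization.exists_mk'_eq (nonZeroDivisors A) x
    have hc : c ∈ q.1.asIdeal := by
      rw [hq]
      show algebraMap A (FractionRing A) c ∈ Q
      rw [← IsLocalization.mk'_spec (FractionRing A) c s]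
      exact Q.mul_mem_right _ hxQ
    have e := congrArg (proj q) (IsLocalization.mk'_spec (FractionRing A) c s)
    rw [map_mul, AlgHom.commutes, AlgHom.commutes, algebraMap_fld_eq_zero.2 hc, mul_eq_zero] at e
    exact e.resolve_right (isUnit_fld q s).ne_zero
  refine ⟨Σ p, M p, inferInstance, π, fun j => ⟨hπi j, hunit _ fun q => ?_⟩, ?_, ?_⟩
  · rw [hπp]
    by_cases h : q = j.1
    · subst h; rw [Function.update_self]; exact (hg j.1 j.2).2
    · rw [Function.update_of_ne h]; exact one_ne_zero
  · rintro ⟨p, i⟩ ⟨p', i'⟩ hne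
    obtain ⟨ry, sy, hry, hsy, hsum⟩ : ∃ ry sy : ∀ q : Mn A, Fld q,
        (∀ q, IsIntegral A (ry q)) ∧ (∀ q, IsIntegral A (sy q)) ∧
        ∀ q, ry q * proj q (π ⟨p, i⟩) + sy q * proj q (π ⟨p', i'⟩) = 1 := by
      by_cases hp : p = p'
      · subst hp
        obtain ⟨r, s, hr, hs, hrs⟩ := hcop p i i' fun e => hne (by rw [e])
        refine ⟨Function.update (fun _ => 1) p r, Function.update (fun _ => 0) p s,
          hupd _ _ _ hr fun _ => isIntegral_one, hupd _ _ _ hs fun _ => isIntegral_zero, fun q => ?_⟩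
        rw [hπp, hπp]
        by_cases h : q = p
        · subst h; simp only [Function.update_self]; exact hrs
        · simp [Function.update_of_ne h]
      · refine ⟨Function.update (fun _ => 1) p 0, Function.update (fun _ => 0) p 1,
          hupd _ _ _ isIntegral_zero fun _ => isIntegral_one,
          hupd _ _ _ isIntegral_one fun _ => isIntegral_zero, fun q => ?_⟩
        rw [hπp, hπp]
        by_cases h : q = p
        · subst h; simp [Function.update_of_ne hp]
        · simp [Function.update_of_ne h]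
    obtain ⟨r, hr, hrp⟩ := lift ry hry
    obtain ⟨s, hs, hsp⟩ := lift sy hsy
    have hx : IsIntegral A (r * π ⟨p, i⟩ + s * π ⟨p', i'⟩) :=
      (hr.mul (hπi _)).add (hs.mul (hπi _))
    obtain ⟨z, hz, hxz⟩ := isUnit_of_proj hx isIntegral_one fun q => by
      rw [map_add, map_mul, map_mul, hrp, hsp, hsum q, map_one, mul_one]
    exact ⟨z * r, z * s, hz.mul hr, hz.mul hs, by rw [← hxz]; ring⟩
  · intro a ha
    have hfac' := fun p : Mn A => hfac p (algebraMap A (Fld p) a) isIntegral_algebraMap
      (isUnit_fld p ⟨a, ha⟩).ne_zero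
    choose w w' e hw hw' hww he using hfac'
    let E : (Σ p, M p) → ℕ := fun j => e j.1 j.2
    obtain ⟨u, hu⟩ : IsUnit (∏ j, π j ^ E j) := IsUnit.prod_iff.2 fun j _ => (hunit _ fun q => by
      rw [hπp]
      by_cases h : q = j.1
      · subst h; rw [Function.update_self]; exact (hg j.1 j.2).2
      · rw [Function.update_of_ne h]; exact one_ne_zero).pow _
    set v : FractionRing A := algebraMap A (FractionRing A) a * (↑u⁻¹ : FractionRing A) with hv
    have hva : v * ∏ j, π j ^ E j = algebraMap A (FractionRing A) a := by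
      rw [hv, ← hu, mul_assoc, Units.inv_mul, mul_one]
    have hprod : ∀ q, proj q (∏ j, π j ^ E j) = ∏ i : M q, g q i ^ e q i := by
      intro q
      simp only [map_prod, map_pow, hπp, Fintype.prod_sigma]
      rw [Finset.prod_eq_single q (fun b _ hb => ?_) (fun h => absurd (Finset.mem_univ q) h)]
      · exact Finset.prod_congr rfl fun i _ => by rw [Function.update_self]
      · exact Finset.prod_eq_one fun i _ => by rw [Function.update_of_ne (Ne.symm hb), one_pow]
    have hvp : ∀ q, proj q v = w q := fun q => by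
      have h0 : (∏ i : M q, g q i ^ e q i) ≠ 0 :=
        Finset.prod_ne_zero_iff.2 fun i _ => pow_ne_zero _ (hg q i).2
      apply mul_right_cancel₀ h0
      rw [← he q, ← hprod q, ← map_mul, hva, AlgHom.commutes]
    obtain ⟨y, hy, hyp⟩ := lift w' hw'
    have hvi : IsIntegral A v := isIntegral_of_proj fun q => (hvp q).symm ▸ hw q
    obtain ⟨z, hz, hvz⟩ := isUnit_of_proj hvi hy fun q => by rw [hvp, hyp]; exact hww q
    exact ⟨v, z, E, hvi, hz, hvz, hva.symm⟩

/-- The exponent of a divisor is bounded in all finite extensions. -/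
theorem exists_bound {a b : A} (ham : a ∈ maximalIdeal A) (ha : a ∈ nonZeroDivisors A)
    (hb : b ∈ nonZeroDivisors A) : ∃ n : ℕ, ∀ (R' : Type u) [CommRing R'] [Algebra A R'],
      Function.Injective (algebraMap A R') → Module.Finite A R' → ∀ (m : ℕ) (c : R'),
        algebraMap A R' b = algebraMap A R' a ^ m * c → m ≤ n := by
  classical
  obtain ⟨q, hq, -⟩ := Ideal.exists_minimalPrimes_le (show (⊥ : Ideal A) ≤ maximalIdeal A from bot_le)
  obtain ⟨p⟩ : Nonempty (Mn A) := ⟨⟨⟨q, hq.1.1⟩, hq⟩⟩
  obtain ⟨M, _, g, hg, -, hfac, hbd⟩ := exists_primes hA htm ht p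
  obtain ⟨w, w', e, hw, hw', hww, he⟩ := hfac (algebraMap A (Fld p) a) isIntegral_algebraMap
    (isUnit_fld p ⟨a, ha⟩).ne_zero
  -- `a` is not a unit of the normalization
  obtain ⟨i, hi⟩ : ∃ i, e i ≠ 0 := by
    by_contra h
    push Not at h
    rw [Finset.prod_eq_one (fun i _ => by rw [h i, pow_zero]), mul_one] at he
    let A' := A ⧸ p.1.asIdeal
    let S := integralClosure A' (Fld p)
    have hu : IsUnit (algebraMap A' S (Ideal.Quotient.mk _ a)) := by
      refine IsUnit.of_mul_eq_one ⟨w', (isIntegral_fld_iff _).1 hw'⟩ (Subtype.ext ?_)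
      show algebraMap A (Fld p) a * w' = 1
      rw [he, hww]
    have h2 : IsUnit (Ideal.Quotient.mk p.1.asIdeal a) := by
      have hinj : Function.Injective (algebraMap A' S) := fun x y e =>
        IsFractionRing.injective A' (Fld p) (congrArg Subtype.val e)
      haveI := RingHom.IsIntegral.isLocalHom (f := algebraMap A' S) (Algebra.IsIntegral.isIntegral) hinj
      exact hu.of_map
    obtain ⟨d, hd⟩ := h2.exists_right_inv
    obtain ⟨d, rfl⟩ := Ideal.Quotient.mk_surjective d
    rw [← map_mul, ← map_one (Ideal.Quotient.mk p.1.asIdeal), Ideal.Quotient.eq] at hd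
    have h1 : (1 : A) ∈ maximalIdeal A := by
      have h3 := sub_mem (Ideal.mul_mem_right d _ ham) (le_maximalIdeal p.1.isPrime.ne_top hd)
      rwa [sub_sub_cancel] at h3
    exact (maximalIdeal.isMaximal A).ne_top ((Ideal.eq_top_iff_one _).2 h1)
  obtain ⟨n, hn⟩ := hbd (algebraMap A (Fld p) b) isIntegral_algebraMap (isUnit_fld p ⟨b, hb⟩).ne_zero i
  refine ⟨n, fun R' _ _ hinj hfin m c hc => ?_⟩
  have hci : IsIntegral A c := Algebra.IsIntegral.isIntegral c
  obtain ⟨P, hP, hPc⟩ := hci
  -- transport the integral equation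
  let P' := P.scaleRoots (a ^ m)
  have h1 : Polynomial.eval₂ (algebraMap A R') (algebraMap A R' b) P' = 0 := by
    rw [hc, ← map_pow, Polynomial.scaleRoots_eval₂_mul, hPc, mul_zero]
  rw [Polynomial.eval₂_at_apply] at h1
  have h2 : P'.eval b = 0 := hinj (h1.trans (map_zero _).symm)
  set α := algebraMap A (Fld p) (a ^ m)
  have hα : α ≠ 0 := (isUnit_fld p ⟨a ^ m, pow_mem ha m⟩).ne_zero
  set x := α⁻¹ * algebraMap A (Fld p) b
  have hx : IsIntegral A x := by
    refine ⟨P, hP, ?_⟩
    have h3 : Polynomial.eval₂ (algebraMap A (Fld p)) (α * x) P' = 0 := by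
      rw [mul_inv_cancel_left₀ hα, Polynomial.eval₂_at_apply, h2, map_zero]
    rw [Polynomial.scaleRoots_eval₂_mul] at h3
    exact (mul_eq_zero.1 h3).resolve_left (pow_ne_zero _ hα)
  refine le_trans ?_ (hn (m * e i) (x * w ^ m * ∏ j ∈ Finset.univ \ {i}, g j ^ (e j * m)) ?_ ?_)
  · exact Nat.le_mul_of_pos_right m (Nat.pos_of_ne_zero hi)
  · exact (hx.mul (hw.pow m)).mul (IsIntegral.prod _ fun j _ => (hg j).1.pow _)
  · rw [← mul_inv_cancel_left₀ hα (algebraMap A (Fld p) b)]
    show α * x = _
    simp only [α, map_pow, he, mul_pow, ← Finset.prod_pow, ← pow_mul]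
    rw [Finset.prod_eq_mul_prod_sdiff_singleton_of_mem (Finset.mem_univ i) (fun j => g j ^ (e j * m)),
      mul_comm m (e i)]
    ring

end

end Groth.Agent.TameAlg50
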