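import Groth.Agent.TameAlg50.NormFibre
import Mathlib.RingTheory.IsTensorProduct
import Mathlib.RingTheory.Flat.Stability
import Mathlib.RingTheory.TensorProduct.Quotient
import Mathlib.RingTheory.Norm.Basic

/-! The fibre of a base change over a point. -/

set_option autoImplicit false
set_option linter.unusedSectionVars false
set_option linter.style.haveILetI false

universe u

namespace Groth.Agent.TameAlg50

open IsLocalRing
open scoped TensorProduct

variable {A A' B C : Type u} [CommRing A] [CommRing A'] [CommRing B] [CommRing C]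
  [IsNoetherianRing A] [IsNoetherianRing A'] [IsLocalRing A] [IsLocalRing A']
  [Algebra A A'] [IsLocalHom (algebraMap A A')] [Algebra A B] [Algebra A' C] [Algebra B C] [Algebra A C]
  [IsScalarTower A A' C] [IsScalarTower A B C] [hpo : Algebra.IsPushout A A' B C] [Module.Finite A B]

section

variable (A A') in
/-- The extension of the maximal ideal. -/
noncomputable abbrev ext0 : Ideal A' := (maximalIdeal A).map (algebraMap A A')

variable (A A') in
/-- The map from the residue field to `A'/mA'`. -/
noncomputable def res0 : ResidueField A →+* A' ⧸ ext0 A A' :=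
  Ideal.quotientMap (ext0 A A') (algebraMap A A') Ideal.le_comap_map

theorem res0_residue (a : A) : res0 A A' (residue A a) = Ideal.Quotient.mk _ (algebraMap A A' a) := rfl

variable (A' C) in
/-- The ideal of `C` cut out by `q` and `I`. -/
noncomputable abbrev fibId (q : MaximalSpectrum B) (I : Ideal A') : Ideal C :=
  q.asIdeal.map (algebraMap B C) ⊔ I.map (algebraMap A' C)

theorem ext0_le : ext0 A A' ≤ maximalIdeal A' := Ideal.map_le_iff_le_comap.2 fun _ hx => map_nonunit _ _ hx

theorem maximal_le_comap (q : MaximalSpectrum B) : maximalIdeal A ≤ q.asIdeal.comap (algebraMap A B) :=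
  (eq_maximalIdeal (below A q).isMaximal).ge

include A B hpo in
theorem finite_pushout : Module.Finite A' C :=
  Module.Finite.of_surjective (Algebra.IsPushout.equiv A A' B C).toLinearEquiv.toLinearMap
    (Algebra.IsPushout.equiv A A' B C).surjective

include A hpo in
theorem flat_pushout [Module.Flat A A'] : Module.Flat B C :=
  haveI : Algebra.IsPushout A B A' C := hpo.symm
  Module.Flat.isBaseChange A B A' C (Algebra.IsPushout.out (R := A) (S := B) (R' := A') (S' := C))

/-- Coordinates on the fibre. -/
theorem exists_coord (q : MaximalSpectrum B) :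
    letI := quotAlg q.asIdeal (maximal_le_comap (A := A) q)
    ∃ (d : ℕ) (β : Module.Basis (Fin d) (ResidueField A) (B ⧸ q.asIdeal)) (bb : Fin d → B)
      (ψ : C →ₗ[A'] (Fin d → A' ⧸ ext0 A A')),
      (∀ k, Ideal.Quotient.mk q.asIdeal (bb k) = β k) ∧
      (∀ b k, ψ (algebraMap B C b) k =
        res0 A A' (β.repr (Ideal.Quotient.mk q.asIdeal b) k)) ∧
      (∀ x ∈ q.asIdeal.map (algebraMap B C), ψ x = 0) ∧
      (∀ (x : C) (f : Fin d → A'), (∀ k, Ideal.Quotient.mk (ext0 A A') (f k) = ψ x k) →
        x - ∑ k, f k • algebraMap B C (bb k) ∈ q.asIdeal.map (algebraMap B C)) := by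
  classical
  letI := quotAlg q.asIdeal (maximal_le_comap (A := A) q)
  haveI := quotAlg_finite (R := A) q.asIdeal (maximal_le_comap q)
  let β := Module.finBasis (ResidueField A) (B ⧸ q.asIdeal)
  choose bb hbb using fun k => Ideal.Quotient.mk_surjective (β k)
  let ι0 : ResidueField A →+* A' ⧸ ext0 A A' := res0 A A'
  let c : B →ₗ[A] (Fin _ → A' ⧸ ext0 A A') :=
    { toFun := fun b k => ι0 (β.repr (Ideal.Quotient.mk q.asIdeal b) k)
      map_add' := fun x y => by funext k; simp only [map_add, Finsupp.add_apply, Pi.add_apply]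
      map_smul' := fun a x => by
        funext k
        have : Ideal.Quotient.mk q.asIdeal (a • x) = residue A a • Ideal.Quotient.mk q.asIdeal x := by
          rw [Algebra.smul_def, map_mul, Algebra.smul_def, quotAlg_apply]
        rw [this, map_smul, Finsupp.smul_apply, smul_eq_mul, map_mul]
        show Ideal.Quotient.mk (ext0 A A') (algebraMap A A' a) * _ = a • _
        rw [Algebra.smul_def]
        rfl }
  let h := hpo.out
  let ψ := h.lift c
  have hψ : ∀ b, ψ (algebraMap B C b) = c b := fun b => h.lift_eq c b
  have hmul : ∀ j ∈ q.asIdeal, ∀ x : C, ψ (x * algebraMap B C j) = 0 := by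
    intro j hj x
    induction x using h.inductionOn with
    | zero => simp
    | tmul b =>
      show ψ (algebraMap B C b * algebraMap B C j) = 0
      rw [← map_mul, hψ]
      funext k
      show ι0 (β.repr (Ideal.Quotient.mk q.asIdeal (b * j)) k) = 0
      rw [Ideal.Quotient.eq_zero_iff_mem.2 (Ideal.mul_mem_left _ b hj), map_zero, Finsupp.zero_apply, map_zero]
    | smul s x hx => rw [smul_mul_assoc, map_smul, hx, smul_zero]
    | add x y hx hy => rw [add_mul, map_add, hx, hy, add_zero]
  have hker : ∀ x ∈ q.asIdeal.map (algebraMap B C), ∀ y : C, ψ (y * x) = 0 := by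
    intro x hx
    induction hx using Submodule.span_induction with
    | mem x hx => obtain ⟨j, hj, rfl⟩ := hx; exact hmul j hj
    | zero => simp
    | add x y _ _ hx hy => intro z; rw [mul_add, map_add, hx, hy, add_zero]
    | smul r x _ hx => intro z; rw [smul_eq_mul, ← mul_assoc]; exact hx _
  have hm : ∀ r ∈ ext0 A A', ∀ y : C, r • y ∈ q.asIdeal.map (algebraMap B C) := by
    intro r hr
    induction hr using Submodule.span_induction with
    | mem r hr =>
      obtain ⟨m, hm, rfl⟩ := hr
      intro y
      rw [algebraMap_smul, Algebra.smul_def, IsScalarTower.algebraMap_apply A B C]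
      exact Ideal.mul_mem_right _ _ (Ideal.mem_map_of_mem _ (maximal_le_comap (A := A) q hm))
    | zero => intro y; rw [zero_smul]; exact zero_mem _
    | add x z _ _ hx hz => intro y; rw [add_smul]; exact add_mem (hx y) (hz y)
    | smul s x _ hx => intro y; rw [smul_eq_mul, mul_comm, mul_smul]; exact hx _
  have hdec : ∀ x : C, ∃ f : Fin _ → A', (∀ k, Ideal.Quotient.mk (ext0 A A') (f k) = ψ x k) ∧
      x - ∑ k, f k • algebraMap B C (bb k) ∈ q.asIdeal.map (algebraMap B C) := by
    intro x
    induction x using h.inductionOn with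
    | zero => exact ⟨0, fun k => by simp, by simp⟩
    | tmul b =>
      choose a ha using fun k => residue_surjective (β.repr (Ideal.Quotient.mk q.asIdeal b) k)
      refine ⟨fun k => algebraMap A A' (a k), fun k => ?_, ?_⟩
      · show _ = ψ (algebraMap B C b) k
        rw [hψ]
        show _ = ι0 (β.repr (Ideal.Quotient.mk q.asIdeal b) k)
        rw [← ha k]
        rfl
      · show algebraMap B C b - _ ∈ _
        have e : ∑ k, algebraMap A A' (a k) • algebraMap B C (bb k) = algebraMap B C (∑ k, a k • bb k) := by
          rw [map_sum]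
          refine Finset.sum_congr rfl fun k _ => ?_
          rw [algebraMap_smul, Algebra.smul_def, Algebra.smul_def, map_mul, ← IsScalarTower.algebraMap_apply]
        rw [e, ← map_sub]
        refine Ideal.mem_map_of_mem _ ?_
        rw [← Ideal.Quotient.eq_zero_iff_mem, map_sub, map_sum, sub_eq_zero]
        refine (β.sum_repr _).symm.trans (Finset.sum_congr rfl fun k _ => ?_)
        rw [Algebra.smul_def (a k), map_mul, hbb, ← ha k, Algebra.smul_def, quotAlg_apply]
    | smul s x hx =>
      obtain ⟨f, hf, hx⟩ := hx
      refine ⟨fun k => s * f k, fun k => ?_, ?_⟩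
      · rw [map_smul, Pi.smul_apply, ← hf, map_mul, Algebra.smul_def]
        rfl
      · simp only [mul_smul]
        rw [← Finset.smul_sum, ← smul_sub, Algebra.smul_def]
        exact Ideal.mul_mem_left _ _ hx
    | add x y hx hy =>
      obtain ⟨f, hf, hx⟩ := hx
      obtain ⟨g, hg, hy⟩ := hy
      refine ⟨f + g, fun k => by simp [hf, hg], ?_⟩
      simp only [Pi.add_apply, add_smul, Finset.sum_add_distrib]
      rw [add_sub_add_comm]
      exact add_mem hx hy
  refine ⟨_, β, bb, ψ, hbb, fun b k => congrFun (hψ b) k,
    fun x hx => by simpa using hker x hx 1, fun x f hf => ?_⟩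
  obtain ⟨g, hg, hx⟩ := hdec x
  have : ∑ k, (g k - f k) • algebraMap B C (bb k) ∈ q.asIdeal.map (algebraMap B C) :=
    Submodule.sum_mem _ fun k _ => hm _ (Ideal.Quotient.eq.1 ((hg k).trans (hf k).symm)) _
  simp only [sub_smul, Finset.sum_sub_distrib] at this
  simpa using add_mem hx this

variable (q : MaximalSpectrum B)

/-- Membership in terms of coordinates. -/
theorem mem_fibId {d : ℕ} {bb : Fin d → B} {ψ : C →ₗ[A'] (Fin d → A' ⧸ ext0 A A')}
    (hker : ∀ x ∈ q.asIdeal.map (algebraMap B C), ψ x = 0)
    (hdec : ∀ (x : C) (f : Fin d → A'), (∀ k, Ideal.Quotient.mk (ext0 A A') (f k) = ψ x k) →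
      x - ∑ k, f k • algebraMap B C (bb k) ∈ q.asIdeal.map (algebraMap B C))
    {I : Ideal A'} (hI : ext0 A A' ≤ I) (x : C) (f : Fin d → A')
    (hf : ∀ k, Ideal.Quotient.mk (ext0 A A') (f k) = ψ x k) :
    x ∈ fibId A' C q I ↔ ∀ k, f k ∈ I := by
  constructor
  · intro hx k
    have hgood : ∀ y ∈ I.map (algebraMap A' C), ∀ z : C, ∀ k, ψ (z * y) k ∈ I.map (Ideal.Quotient.mk (ext0 A A')) := by
      intro y hy
      induction hy using Submodule.span_induction with
      | mem y hy =>
        obtain ⟨i, hi, rfl⟩ := hy
        intro z k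
        rw [mul_comm, ← Algebra.smul_def, map_smul, Pi.smul_apply, Algebra.smul_def]
        exact Ideal.mul_mem_right _ _ (Ideal.mem_map_of_mem _ hi)
      | zero => intro z k; simp
      | add y w _ _ hy hw => intro z k; rw [mul_add, map_add]; exact add_mem (hy z k) (hw z k)
      | smul r y _ hy => intro z k; rw [smul_eq_mul, ← mul_assoc]; exact hy _ k
    obtain ⟨j, hj, i, hi, rfl⟩ := Submodule.mem_sup.1 hx
    have := hgood i hi 1 k
    rw [one_mul] at this
    have hk := hf k
    rw [map_add, hker j hj, zero_add] at hk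
    rw [← hk, Ideal.mem_quotient_iff_mem hI] at this
    exact this
  · intro h
    have : x = (x - ∑ k, f k • algebraMap B C (bb k)) + ∑ k, f k • algebraMap B C (bb k) :=
      (sub_add_cancel _ _).symm
    rw [this]
    refine add_mem (Ideal.mem_sup_left (hdec x f hf)) (Ideal.mem_sup_right ?_)
    exact Submodule.sum_mem _ fun k _ => by
      rw [Algebra.smul_def]
      exact Ideal.mul_mem_right _ _ (Ideal.mem_map_of_mem _ (h k))

/-- Lengths on the fibre are multiples of the residual length. -/
theorem locLen_layer (Q : MaximalSpectrum C) (I : Ideal A') (hI : ext0 A A' ≤ I)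
    (hfin : ∀ p : Ideal A', p.IsPrime → ext0 A A' ≤ p → p.IsMaximal) :
    Len90.locLen Q.asIdeal (C ⧸ fibId A' C q I) =
      Module.length A' (A' ⧸ I) * Len90.locLen Q.asIdeal (C ⧸ fibId A' C q (maximalIdeal A')) := by
  haveI : Module.Finite A' C := finite_pushout (A := A) (B := B)
  haveI : IsNoetherianRing C := isNoetherianRing_of_finite (A := A')
  obtain ⟨d, β, bb, ψ, -, -, hker, hdec⟩ := exists_coord (A := A) (A' := A') (C := C) q
  induction I using IsNoetherian.induction with
  | hgt I ih =>
    by_cases hT : I = ⊤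
    · subst hT
      have : fibId A' C q (⊤ : Ideal A') = ⊤ := by
        rw [fibId, Ideal.map_top, sup_top_eq]
      rw [this, locLen_quot_top, Module.length_eq_zero_iff.2 (Submodule.Quotient.subsingleton_iff.2 rfl), zero_mul]
    obtain ⟨P, j, hj, -, hmem⟩ := exists_step I hT fun p hp hle => hfin p hp (hI.trans hle)
    have hP : P.asIdeal = maximalIdeal A' := eq_maximalIdeal P.isMaximal
    rw [hP] at hmem
    have hlt : I < I ⊔ Ideal.span {j} := lt_of_le_of_ne le_sup_left fun e =>
      hj (e.symm ▸ Ideal.mem_sup_right (Ideal.mem_span_singleton_self j))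
    have hstep : ∀ c : C, c * algebraMap A' C j ∈ fibId A' C q I ↔ c ∈ fibId A' C q (maximalIdeal A') := by
      intro c
      choose f hf using fun k => Ideal.Quotient.mk_surjective (ψ c k)
      rw [mem_fibId q hker hdec hI _ (fun k => f k * j) (fun k => by
          rw [mul_comm c, ← Algebra.smul_def, map_smul, Pi.smul_apply, Algebra.smul_def, map_mul, hf, mul_comm]
          rfl),
        mem_fibId q hker hdec ext0_le c f hf]
      exact forall_congr' fun k => hmem (f k)
    have hsup : fibId A' C q (I ⊔ Ideal.span {j}) = fibId A' C q I ⊔ Ideal.span {algebraMap A' C j} := by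
      simp only [fibId, Ideal.map_sup, Ideal.map_span, Set.image_singleton, sup_assoc]
    have hlen : Module.length A' (A' ⧸ I) = 1 + Module.length A' (A' ⧸ (I ⊔ Ideal.span {j})) := by
      let Q0 : MaximalSpectrum A' := ⟨maximalIdeal A', inferInstance⟩
      simp only [← locLen_closed Q0]
      rw [locLen_step Q0 (P := Q0.asIdeal) hmem, Len90.locLen_quot_self]
    rw [locLen_step Q hstep, ← hsup, ih (I ⊔ Ideal.span {j}) hlt (hI.trans le_sup_left), hlen, add_mul, one_mul]

/-- The norm of the fibre is the base change of the norm. -/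
theorem norm_fibId (y : B) :
    letI := quotAlg q.asIdeal (maximal_le_comap (A := A) q)
    ∀ (h : maximalIdeal A' ≤ (fibId A' C q (maximalIdeal A')).comap (algebraMap A' C)),
    letI := quotAlg (fibId A' C q (maximalIdeal A')) h
    Algebra.norm (ResidueField A') (Ideal.Quotient.mk (fibId A' C q (maximalIdeal A')) (algebraMap B C y)) =
      ResidueField.map (algebraMap A A') (Algebra.norm (ResidueField A) (Ideal.Quotient.mk q.asIdeal y)) := by
  classical
  letI := quotAlg q.asIdeal (maximal_le_comap (A := A) q)
  intro h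
  letI := quotAlg (fibId A' C q (maximalIdeal A')) h
  haveI : Module.Finite A' C := finite_pushout (A := A) (B := B)
  obtain ⟨d, β, bb, ψ, hbb, hψ, hker, hdec⟩ := exists_coord (A := A) (A' := A') (C := C) q
  let D := C ⧸ fibId A' C q (maximalIdeal A')
  let v : Fin d → D := fun k => Ideal.Quotient.mk _ (algebraMap B C (bb k))
  have hsmul : ∀ (r : A') (z : C), residue A' r • (Ideal.Quotient.mk _ z : D) =
      Ideal.Quotient.mk _ (r • z) := fun r z => by
    rw [Algebra.smul_def, quotAlg_apply, Algebra.smul_def, map_mul]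
  have hv : LinearIndependent (ResidueField A') v := by
    rw [Fintype.linearIndependent_iff]
    intro g hg k
    choose r hr using fun k => residue_surjective (g k)
    simp only [← hr, v, hsmul, ← map_sum] at hg
    replace hg := Ideal.Quotient.eq_zero_iff_mem.1 hg
    rw [← hr, residue_eq_zero_iff]
    refine (mem_fibId q hker hdec ext0_le _ r (fun l => ?_)).1 hg k
    simp only [map_sum, map_smul, Finset.sum_apply, Pi.smul_apply, hψ, hbb, Module.Basis.repr_self,
      Finsupp.single_apply]
    rw [Finset.sum_eq_single l (fun b _ hb => by rw [if_neg hb, map_zero, smul_zero]) (by simp)]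
    rw [if_pos rfl, map_one, Algebra.smul_def, mul_one]
    rfl
  have hspan : ⊤ ≤ Submodule.span (ResidueField A') (Set.range v) := by
    rintro x -
    obtain ⟨z, rfl⟩ := Ideal.Quotient.mk_surjective x
    choose f hf using fun k => Ideal.Quotient.mk_surjective (ψ z k)
    have e : (Ideal.Quotient.mk _ z : D) = ∑ k, residue A' (f k) • v k := by
      simp only [v, hsmul, ← map_sum]
      exact Ideal.Quotient.eq.2 (Ideal.mem_sup_left (hdec z f hf))
    rw [e]
    exact Submodule.sum_mem _ fun k _ => Submodule.smul_mem _ _ (Submodule.subset_span ⟨k, rfl⟩)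
  let γ : Module.Basis (Fin d) (ResidueField A') D := Module.Basis.mk hv hspan
  rw [Algebra.norm_eq_matrix_det γ, Algebra.norm_eq_matrix_det β, RingHom.map_det]
  congr 1
  ext l k
  rw [RingHom.mapMatrix_apply, Matrix.map_apply, Algebra.leftMulMatrix_eq_repr_mul,
    Algebra.leftMulMatrix_eq_repr_mul, Module.Basis.mk_apply, ← hbb, ← map_mul]
  choose a ha using fun i => residue_surjective (β.repr (Ideal.Quotient.mk q.asIdeal (y * bb k)) i)
  have e : Ideal.Quotient.mk (fibId A' C q (maximalIdeal A')) (algebraMap B C y * algebraMap B C (bb k)) = ∑ i, residue A' (algebraMap A A' (a i)) • v i := by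
    simp only [v, hsmul, ← map_sum, ← map_mul]
    refine Ideal.Quotient.eq.2 (Ideal.mem_sup_left (hdec _ _ fun i => ?_))
    rw [hψ, ← ha i]
    rfl
  have hrepr : γ.repr (∑ i, residue A' (algebraMap A A' (a i)) • v i) l = residue A' (algebraMap A A' (a l)) := by
    simp only [show v = ⇑γ from (Module.Basis.coe_mk hv hspan).symm]
    rw [γ.repr_sum_self]
  rw [e, hrepr, ← map_mul, ← ha l]
  rfl

end

end Groth.Agent.TameAlg50
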