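import Groth.Agent.TameAlg50.Fibre

/-! The tame symbol computed in a finite birational extension, and its invariance under refinement. -/

set_option autoImplicit false
set_option linter.unusedSectionVars false
set_option linter.style.haveILetI false

universe u

namespace Groth.Agent.TameAlg50

open IsLocalRing

variable {A : Type u} [CommRing A] [IsNoetherianRing A] [IsLocalRing A]

/-- A non-zero-divisor of a one-dimensional local ring generates an ideal containing a power of `m`. -/
theorem exists_pow_le_span (hA : ringKrullDim A = 1) {a : A} (ha : a ∈ nonZeroDivisors A) :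
    ∃ n : ℕ, maximalIdeal A ^ n ≤ Ideal.span {a} := by
  have : Ring.KrullDimLE 1 A := Ring.krullDimLE_iff.mpr hA.le
  refine Ideal.exists_pow_le_of_le_radical_of_fg_radical ?_ (IsNoetherian.noetherian _)
  rw [Ideal.radical_eq_sInf]
  refine le_sInf ?_
  rintro J ⟨haJ, hJ⟩
  have haJ' : a ∈ J := haJ (Ideal.mem_span_singleton_self a)
  rcases Ring.krullDimLE_one_iff.mp ‹_› J hJ with h | h
  · exact absurd ha fun hh => (Ideal.disjoint_nonZeroDivisors_of_mem_minimalPrimes h).le_bot ⟨haJ', hh⟩
  · exact (eq_maximalIdeal h).ge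

/-- A finite extension with `B/A` killed by a power of `m` in which non-zero-divisors stay regular. -/
structure Ext (A B : Type u) [CommRing A] [IsLocalRing A] [CommRing B] [Algebra A B] : Prop where
  finExt : CycAlg.IsFinExt A B (maximalIdeal A)
  regular : ∀ c ∈ nonZeroDivisors A, IsSMulRegular B c

section

variable {B C : Type u} [CommRing B] [CommRing C] [Algebra A B] [Algebra A C]

theorem Ext.self : Ext A A where
  finExt := ⟨Function.injective_id, inferInstance, 0, fun r _ b => ⟨r • b, rfl⟩⟩
  regular c hc := fun x y e => (mul_cancel_left_mem_nonZeroDivisors hc).1 e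

theorem isNoetherianRing_of_finite [Module.Finite A B] : IsNoetherianRing B :=
  IsNoetherianRing.of_finite A B

omit [IsNoetherianRing A] in
theorem isLocalHom_atPrime [Module.Finite A B] (q : MaximalSpectrum B) :
    IsLocalHom (algebraMap A (Localization.AtPrime q.asIdeal)) := by
  constructor
  intro x hx
  by_contra hn
  have hmem : x ∈ (below A q).asIdeal :=
    (eq_maximalIdeal (below A q).isMaximal) ▸ (mem_maximalIdeal x).2 hn
  rw [IsScalarTower.algebraMap_apply A B, IsLocalization.AtPrime.isUnit_to_map_iff _ q.asIdeal] at hx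
  exact hx hmem

theorem finite_maximalSpectrum [Module.Finite A B] : Finite (MaximalSpectrum B) := by
  let I := (maximalIdeal A).map (algebraMap A B)
  haveI : IsArtinianRing (B ⧸ I) := by
    let : Algebra (ResidueField A) (B ⧸ I) :=
      Ideal.Quotient.algebraQuotientOfLEComap Ideal.le_comap_map
    have : IsScalarTower A (ResidueField A) (B ⧸ I) := IsScalarTower.of_algebraMap_eq fun x => rfl
    have : Module.Finite (ResidueField A) (B ⧸ I) := Module.Finite.of_restrictScalars_finite A _ _
    exact IsArtinianRing.of_finite (ResidueField A) (B ⧸ I)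
  have hI : ∀ q : MaximalSpectrum B, I ≤ q.asIdeal := fun q =>
    Ideal.map_le_iff_le_comap.2 (eq_maximalIdeal (below A q).isMaximal).ge
  refine Finite.of_injective (β := MaximalSpectrum (B ⧸ I)) (fun q => ⟨q.asIdeal.map (Ideal.Quotient.mk I),
    haveI := q.isMaximal
    Ideal.IsMaximal.map_of_surjective_of_ker_le Ideal.Quotient.mk_surjective
      (by rw [Ideal.mk_ker]; exact hI q)⟩) ?_
  intro q q' h
  have h' := congrArg (fun J => J.asIdeal.comap (Ideal.Quotient.mk I)) h
  simp only [Ideal.comap_map_of_surjective _ Ideal.Quotient.mk_surjective, ← RingHom.ker_eq_comap_bot,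
    Ideal.mk_ker, sup_eq_left.2 (hI _)] at h'
  exact MaximalSpectrum.ext h'

/-- Modules killed by a power of `m` are supported at maximal ideals. -/
theorem isMaximal_of_killed [Module.Finite A C] (N : Type u) [AddCommGroup N] [Module C N]
    [Module A N] [IsScalarTower A C N] (n : ℕ) (h : ∀ r ∈ maximalIdeal A ^ n, ∀ x : N, r • x = 0)
    (p : PrimeSpectrum C) (hp : p ∈ Module.support C N) : p.asIdeal.IsMaximal := by
  have hle : maximalIdeal A ≤ p.asIdeal.comap (algebraMap A C) := by
    intro x hx
    refine p.isPrime.mem_of_pow_mem n ?_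
    rw [← map_pow]
    exact Module.annihilator_le_of_mem_support hp (Module.mem_annihilator.2 fun y => by
      rw [algebraMap_smul, h _ (Ideal.pow_mem_pow hx n)])
  have hmax : (p.asIdeal.comap (algebraMap A C)).IsMaximal := by
    have hne : p.asIdeal.comap (algebraMap A C) ≠ ⊤ :=
      (Ideal.comap_isPrime (algebraMap A C) p.asIdeal).ne_top
    rw [← (maximalIdeal.isMaximal A).eq_of_le hne hle]
    exact maximalIdeal.isMaximal A
  exact Ideal.isMaximal_of_isIntegral_of_isMaximal_comap p.asIdeal hmax

end

theorem locLen_ne_top_of_maximal {R : Type u} [CommRing R] [IsNoetherianRing R] (q : MaximalSpectrum R)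
    (N : Type u) [AddCommGroup N] [Module R N] [Module.Finite R N]
    (h : ∀ p ∈ Module.support R N, p.asIdeal.IsMaximal) : Len90.locLen q.asIdeal N ≠ ⊤ := by
  induction ‹Module.Finite R N› using IsNoetherianRing.induction_on_isQuotientEquivQuotientPrime R with
  | subsingleton N =>
    rw [locLen_zero_of_smul q N (c := 1) (fun h => q.isMaximal.ne_top ((Ideal.eq_top_iff_one _).2 h))
      fun x => Subsingleton.elim _ _]
    exact ENat.zero_ne_top
  | quotient N p e =>
    rw [Len90.locLen_congr q.asIdeal e]
    by_cases hle : p.asIdeal ≤ q.asIdeal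
    · have hp : p.asIdeal.IsMaximal := h p <| by
        rw [e.support_eq, Module.mem_support_iff_of_finite, Ideal.annihilator_quotient]
      obtain rfl : p = ⟨q.asIdeal, q.isMaximal.isPrime⟩ :=
        PrimeSpectrum.ext (hp.eq_of_le q.isMaximal.ne_top hle)
      rw [Len90.locLen_quot_self]
      exact ENat.one_ne_top
    · rw [Len90.locLen_quot_of_not_le _ _ hle]
      exact ENat.zero_ne_top
  | exact N₁ N₂ N₃ f g hf hg hfg h1 h3 =>
    rw [Module.support_of_exact hfg hf hg] at h
    rw [Len90.locLen_exact q.asIdeal f g hf hg hfg]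
    exact WithTop.add_ne_top.2 ⟨h1 fun p hp => h p (Or.inl hp), h3 fun p hp => h p (Or.inr hp)⟩

/-- The product over the maximal ideals of the norms of the intrinsic symbols. -/
noncomputable def val (A B : Type u) [CommRing A] [IsLocalRing A] [CommRing B] [Algebra A B]
    [hfin : Module.Finite A B] (a b : A) : ResidueField A :=
  ∏ᶠ q : MaximalSpectrum B,
    haveI := isLocalHom_atPrime (A := A) q
    Algebra.norm (ResidueField A)
      (tame (Localization.AtPrime q.asIdeal) (algebraMap A (Localization.AtPrime q.asIdeal) a)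
        (algebraMap A (Localization.AtPrime q.asIdeal) b))

/-- The images of a family in a localization. -/
noncomputable def locs {B : Type u} [CommRing B] [Algebra A B] {ι : Type*} (q : MaximalSpectrum B)
    (a : ι → A) : ι → Localization.AtPrime q.asIdeal :=
  fun i => algebraMap A (Localization.AtPrime q.asIdeal) (a i)

/-- Common factorizations at every maximal ideal. -/
def FacAll (B : Type u) [CommRing B] [Algebra A B] {ι : Type*} (a : ι → A) : Prop :=
  ∀ q : MaximalSpectrum B, Fac (Localization.AtPrime q.asIdeal) (locs q a)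

section

variable {B C : Type u} [CommRing B] [CommRing C] [Algebra A B] [Algebra A C] [Algebra B C]
  [IsScalarTower A B C]

theorem finite_BC (hC : Ext A C) : Module.Finite B C :=
  haveI := hC.finExt.2.1
  Module.Finite.of_restrictScalars_finite A B C

theorem regular_localization (hC : Ext A C) (P : MaximalSpectrum C) {c : A}
    (hc : c ∈ nonZeroDivisors A) :
    algebraMap A (Localization.AtPrime P.asIdeal) c ∈ nonZeroDivisors (Localization.AtPrime P.asIdeal) := by
  rw [IsScalarTower.algebraMap_apply A C]
  refine IsLocalization.map_nonZeroDivisors_le P.asIdeal.primeCompl (Localization.AtPrime P.asIdeal)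
    (Submonoid.mem_map_of_mem _ ?_)
  refine mem_nonZeroDivisors_iff_right.2 fun x hx => hC.regular c hc ?_
  show c • x = c • (0 : C)
  rw [smul_zero, Algebra.smul_def, mul_comm, hx]

theorem locMap_algebraMap (q : MaximalSpectrum B) (P : MaximalSpectrum C)
    (h : q.asIdeal = P.asIdeal.comap (algebraMap B C)) (x : A) :
    locMap q P h (algebraMap A (Localization.AtPrime q.asIdeal) x) =
      algebraMap A (Localization.AtPrime P.asIdeal) x := by
  rw [IsScalarTower.algebraMap_apply A B, Localization.localRingHom_to_map,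
    ← IsScalarTower.algebraMap_apply A B C, ← IsScalarTower.algebraMap_apply A C]

/-- A factorization pushes forward along a refinement. -/
theorem fac_push (hC : Ext A C) (q : MaximalSpectrum B) (P : MaximalSpectrum C)
    (h : q.asIdeal = P.asIdeal.comap (algebraMap B C)) {ι : Type*} {a : ι → A}
    (ha : ∀ i, a i ∈ nonZeroDivisors A) (hf : Fac (Localization.AtPrime q.asIdeal) (locs q a)) :
    Fac (Localization.AtPrime P.asIdeal) (locs P a) := by
  classical
  obtain ⟨π, hπ, hf⟩ := hf
  choose w e he using hf
  let g := locMap q P h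
  have key : ∀ i, locs P a i = ((Units.map (g : Localization.AtPrime q.asIdeal →* Localization.AtPrime P.asIdeal) (w i)) :
      Localization.AtPrime P.asIdeal) * g π ^ e i := by
    intro i
    show algebraMap A (Localization.AtPrime P.asIdeal) (a i) = g (w i) * g π ^ e i
    rw [← locMap_algebraMap q P h, ← map_pow, ← map_mul]
    exact congrArg g (he i)
  by_cases hex : ∃ i, e i ≠ 0
  · obtain ⟨i, hi⟩ := hex
    refine ⟨g π, ?_, fun j => ⟨_, _, key j⟩⟩
    have h2 : ((Units.map (g : Localization.AtPrime q.asIdeal →* Localization.AtPrime P.asIdeal) (w i)) :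
        Localization.AtPrime P.asIdeal) * g π ^ e i ∈
        nonZeroDivisors (Localization.AtPrime P.asIdeal) := key i ▸ regular_localization hC P (ha i)
    obtain ⟨k, hk⟩ := Nat.exists_eq_succ_of_ne_zero hi
    rw [hk, pow_succ'] at h2
    exact (mul_mem_nonZeroDivisors.1 (mul_mem_nonZeroDivisors.1 h2).2).1
  · push Not at hex
    exact ⟨1, one_mem _, fun j => ⟨_, 0, (key j).trans (by rw [hex j, pow_zero, pow_zero])⟩⟩

theorem facAll_push (hC : Ext A C) {ι : Type*} {a : ι → A} (ha : ∀ i, a i ∈ nonZeroDivisors A)
    (hf : FacAll B a) : FacAll C a := fun P =>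
  haveI := finite_BC (B := B) hC
  fac_push hC (below B P) P rfl ha (hf (below B P))

/-- The order of a non-zero-divisor at `q` is the weighted sum over the fibre. -/
theorem ord_fibre (hA : ringKrullDim A = 1) (hB : Ext A B) (hC : Ext A C) (q : MaximalSpectrum B)
    (S : Finset (MaximalSpectrum C))
    (hS : ∀ P, P ∈ S ↔ q.asIdeal = P.asIdeal.comap (algebraMap B C)) {a : A}
    (ha : a ∈ nonZeroDivisors A) :
    ordN (Localization.AtPrime q.asIdeal) (algebraMap A (Localization.AtPrime q.asIdeal) a) =
      ∑ P ∈ S.attach, deg q P.1 ((hS P.1).1 P.2) *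
        ordN (Localization.AtPrime P.1.asIdeal) (algebraMap A (Localization.AtPrime P.1.asIdeal) a) := by
  haveI := hB.finExt.2.1
  haveI := hC.finExt.2.1
  haveI : Module.Finite B C := finite_BC hC
  haveI : IsNoetherianRing B := isNoetherianRing_of_finite (A := A)
  haveI : IsNoetherianRing C := isNoetherianRing_of_finite (A := A)
  haveI : Finite (MaximalSpectrum C) := finite_maximalSpectrum (A := A)
  by_cases hu : IsUnit a
  · have h0 : ∀ {R : Type u} [CommRing R] [IsLocalRing R] (f : A →+* R), ordN R (f a) = 0 := by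
      intro R _ _ f
      obtain ⟨w, hw⟩ := hu.map f
      rw [ordN, ← hw, ord_unit]
      rfl
    rw [h0 (algebraMap A _)]
    exact (Finset.sum_eq_zero fun P _ => by rw [h0 (algebraMap A _), mul_zero]).symm
  have ham : a ∈ maximalIdeal A := (mem_maximalIdeal a).2 hu
  let aB : B := algebraMap A B a
  let aC : C := algebraMap A C a
  obtain ⟨n, hn⟩ := exists_pow_le_span hA ha
  have haBC : algebraMap B C aB = aC := (IsScalarTower.algebraMap_apply A B C a).symm
  have hregC : IsSMulRegular C a := hC.regular a ha
  have hkC : ∀ r ∈ maximalIdeal A ^ n, ∀ x : C ⧸ Ideal.span {aC}, r • x = 0 := by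
    intro r hr x
    obtain ⟨s, rfl⟩ := Ideal.mem_span_singleton'.1 (hn hr)
    obtain ⟨y, rfl⟩ := Submodule.Quotient.mk_surjective _ x
    rw [← Submodule.Quotient.mk_smul, Submodule.Quotient.mk_eq_zero, Algebra.smul_def, map_mul]
    exact Ideal.mul_mem_right _ _ (Ideal.mul_mem_left _ _ (Ideal.mem_span_singleton_self _))
  -- `B → C` is injective
  let ι : B →ₗ[B] C := Algebra.linearMap B C
  have hι : Function.Injective ι := (injective_iff_map_eq_zero ι).2 fun z hz => by
    obtain ⟨m, hm⟩ := hB.finExt.2.2
    obtain ⟨x, hx⟩ := hm (a ^ m) (Ideal.pow_mem_pow ham m) z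
    have hx0 : algebraMap A C x = 0 := by
      rw [IsScalarTower.algebraMap_apply A B C, hx, Algebra.smul_def, map_mul]
      exact mul_eq_zero_of_right _ hz
    rw [(map_eq_zero_iff _ hC.finExt.1).1 hx0, map_zero] at hx
    exact hB.regular _ (pow_mem ha m) (hx.symm.trans (smul_zero _).symm)
  -- multiplication by `a` on `C`
  let μ : C →ₗ[B] C := LinearMap.lsmul B C aB
  have hμ : ∀ x, μ x = aC * x := fun x => by
    show aB • x = _
    rw [Algebra.smul_def, haBC]
  have hμinj : Function.Injective μ := fun x y e => hregC (by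
    simpa [hμ, Algebra.smul_def] using e)
  set W : Submodule B C := (LinearMap.range ι).map μ with hW
  have hWμ : W ≤ LinearMap.range μ := LinearMap.map_le_range
  have hWcomap : W.comap μ = LinearMap.range ι := Submodule.comap_map_eq_of_injective hμinj _
  -- three exact sequences
  have e1 := Len90.locLen_exact q.asIdeal ((W.comap μ).mapQ W μ le_rfl) (Submodule.factor hWμ)
    (by
      refine (injective_iff_map_eq_zero _).2 fun c hc => ?_
      obtain ⟨x, rfl⟩ := Submodule.Quotient.mk_surjective _ c
      exact (Submodule.Quotient.mk_eq_zero _).2 ((Submodule.Quotient.mk_eq_zero W (x := μ x)).1 hc))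
    (Submodule.factor_surjective _) (by
      intro c
      obtain ⟨x, rfl⟩ := Submodule.Quotient.mk_surjective _ c
      constructor
      · intro hc
        obtain ⟨y, hy⟩ := (Submodule.Quotient.mk_eq_zero _).1 hc
        exact ⟨Submodule.Quotient.mk y, congrArg Submodule.Quotient.mk hy⟩
      · rintro ⟨c, hc⟩
        obtain ⟨y, rfl⟩ := Submodule.Quotient.mk_surjective _ c
        rw [← hc]
        exact (Submodule.Quotient.mk_eq_zero _).2 ⟨y, rfl⟩)
  have hmemW : ∀ x : B, ι x ∈ W ↔ x ∈ Ideal.span {aB} := by
    intro x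
    rw [Ideal.mem_span_singleton']
    constructor
    · rintro ⟨_, ⟨z, rfl⟩, hz⟩
      refine ⟨z, hι ?_⟩
      rw [← hz, hμ]
      show algebraMap B C (z * aB) = aC * algebraMap B C z
      rw [map_mul, haBC, mul_comm]
    · rintro ⟨z, rfl⟩
      refine ⟨ι z, ⟨z, rfl⟩, ?_⟩
      rw [hμ]
      show aC * algebraMap B C z = algebraMap B C (z * aB)
      rw [map_mul, haBC, mul_comm]
  have hWι : W ≤ LinearMap.range ι := by
    rintro _ ⟨_, ⟨z, rfl⟩, rfl⟩
    exact ⟨z * aB, by rw [hμ]; show algebraMap B C (z * aB) = _; rw [map_mul, haBC, mul_comm]; rfl⟩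
  have e2 := Len90.locLen_exact q.asIdeal
    (Submodule.mapQ (Ideal.span {aB}) W ι fun x hx => (hmemW x).2 hx) (Submodule.factor hWι)
    (by
      refine (injective_iff_map_eq_zero _).2 fun c hc => ?_
      obtain ⟨x, rfl⟩ := Submodule.Quotient.mk_surjective _ c
      exact (Submodule.Quotient.mk_eq_zero _).2 ((hmemW x).1 ((Submodule.Quotient.mk_eq_zero W (x := ι x)).1 hc)))
    (Submodule.factor_surjective _) (by
      intro c
      obtain ⟨x, rfl⟩ := Submodule.Quotient.mk_surjective _ c
      constructor
      · intro hc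
        obtain ⟨y, hy⟩ := (Submodule.Quotient.mk_eq_zero _).1 hc
        exact ⟨Submodule.Quotient.mk y, congrArg Submodule.Quotient.mk hy⟩
      · rintro ⟨c, hc⟩
        obtain ⟨y, rfl⟩ := Submodule.Quotient.mk_surjective _ c
        rw [← hc]
        exact (Submodule.Quotient.mk_eq_zero _).2 ⟨y, rfl⟩)
  -- `C/B` has finite length at `q`
  have hfinE : Len90.locLen q.asIdeal (C ⧸ LinearMap.range ι) ≠ ⊤ := by
    obtain ⟨m, hm⟩ := hC.finExt.2.2
    let p : PrimeSpectrum B := ⟨q.asIdeal, q.isMaximal.isPrime⟩
    have hsupp : ∀ P ∈ Module.support B (C ⧸ LinearMap.range ι), P.asIdeal.IsMaximal :=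
      isMaximal_of_killed (A := A) (C := B) (C ⧸ LinearMap.range ι) m fun r hr x => by
        obtain ⟨x, rfl⟩ := Submodule.Quotient.mk_surjective _ x
        rw [← Submodule.Quotient.mk_smul, Submodule.Quotient.mk_eq_zero]
        obtain ⟨y, hy⟩ := hm r hr x
        exact ⟨algebraMap A B y, by
          show algebraMap B C (algebraMap A B y) = r • x
          rw [← IsScalarTower.algebraMap_apply, hy]⟩
    exact locLen_ne_top_of_maximal q _ hsupp
  rw [hWcomap] at e1
  have hWq : Len90.locLen q.asIdeal (B ⧸ Ideal.span {aB}) = Len90.locLen q.asIdeal (C ⧸ LinearMap.range μ) := by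
    rw [e2, add_comm (Len90.locLen q.asIdeal (C ⧸ LinearMap.range ι))] at e1
    exact WithTop.add_right_cancel hfinE e1
  have hrange : (LinearMap.range μ) = (Ideal.span {aC}).restrictScalars B := by
    ext x
    rw [Submodule.restrictScalars_mem, Ideal.mem_span_singleton']
    simp only [LinearMap.mem_range, hμ]
    exact exists_congr fun z => by rw [mul_comm]
  have hq : Len90.locLen q.asIdeal (B ⧸ Ideal.span {aB}) =
      ∑ P ∈ S.attach, (deg q P.1 ((hS P.1).1 P.2) : ℕ∞) *
        Len90.locLen P.1.asIdeal (C ⧸ Ideal.span {aC}) := by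
    rw [hWq, Len90.locLen_congr q.asIdeal
      ((Submodule.quotEquivOfEq _ _ hrange).trans (Submodule.Quotient.restrictScalarsEquiv B _))]
    exact locLen_fibre q S hS _ (isMaximal_of_killed (A := A) (C := C) _ n hkC)
  rw [← ord_localization] at hq
  simp only [← ord_localization, aB, aC, ← IsScalarTower.algebraMap_apply] at hq
  have hfinq : ∀ P : MaximalSpectrum C, Ring.ord (Localization.AtPrime P.asIdeal)
      (algebraMap A (Localization.AtPrime P.asIdeal) a) < ⊤ := by
    intro P
    rw [IsScalarTower.algebraMap_apply A C, ord_localization]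
    refine lt_top_iff_ne_top.2 (locLen_ne_top_of_maximal P _ ?_)
    exact isMaximal_of_killed (A := A) (C := C) _ n hkC
  unfold ordN
  rw [hq, CycAlg50.toNat_finset_sum _ _ fun P _ => ?_]
  · exact Finset.sum_congr rfl fun P _ => by rw [ENat.toNat_mul, ENat.toNat_coe]
  · exact WithTop.mul_lt_top (ENat.natCast_lt_top _) (hfinq P.1)

theorem finite_residue [Module.Finite A B] (q : MaximalSpectrum B)
    [IsLocalHom (algebraMap A (Localization.AtPrime q.asIdeal))] :
    Module.Finite (ResidueField A) (ResidueField (Localization.AtPrime q.asIdeal)) := by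
  haveI := q.isMaximal
  haveI : Module.Finite A q.asIdeal.ResidueField :=
    Module.Finite.trans B q.asIdeal.ResidueField
  exact Module.Finite.of_restrictScalars_finite A (ResidueField A) q.asIdeal.ResidueField

theorem tame_map_units {R : Type u} [CommRing R] [IsLocalRing R] {a b : R} (ha : IsUnit a)
    (hb : IsUnit b) : tame R a b = 1 := by
  obtain ⟨w, rfl⟩ := ha
  obtain ⟨z, rfl⟩ := hb
  exact tame_unit w z

/-- Refining the extension does not change the value. -/
theorem val_refine (hA : ringKrullDim A = 1) (hB : Ext A B) (hC : Ext A C) [Module.Finite A B]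
    [Module.Finite A C] {a b : A} (ha : a ∈ nonZeroDivisors A) (hb : b ∈ nonZeroDivisors A)
    (hf : FacAll B ![a, b]) : val A B a b = val A C a b := by
  classical
  haveI : Module.Finite B C := finite_BC hC
  haveI : Finite (MaximalSpectrum B) := finite_maximalSpectrum (A := A)
  haveI : Finite (MaximalSpectrum C) := finite_maximalSpectrum (A := A)
  cases nonempty_fintype (MaximalSpectrum B)
  cases nonempty_fintype (MaximalSpectrum C)
  unfold val
  rw [finprod_eq_prod_of_fintype, finprod_eq_prod_of_fintype]
  refine Eq.trans (Finset.prod_congr rfl fun q _ => ?_) (Finset.prod_fiberwise Finset.univ (below B) _)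
  haveI := isLocalHom_atPrime (A := A) q
  let Bq := Localization.AtPrime q.asIdeal
  set S : Finset (MaximalSpectrum C) := Finset.univ.filter fun P => below B P = q
  have hS : ∀ P, P ∈ S ↔ q.asIdeal = P.asIdeal.comap (algebraMap B C) := fun P => by
    simp only [S, Finset.mem_filter, Finset.mem_univ, true_and]
    exact ⟨fun h => h ▸ rfl, fun h => MaximalSpectrum.ext h.symm⟩
  rw [← Finset.prod_attach S]
  obtain ⟨π, hπ, w, z, e, f, hae, hbf⟩ := Fac.pair (R := Bq) (a := algebraMap A Bq a)
    (b := algebraMap A Bq b) (by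
      obtain ⟨π, hπ, h⟩ := hf q
      exact ⟨π, hπ, fun i => by
        obtain ⟨w, e, he⟩ := h i
        refine ⟨w, e, ?_⟩
        fin_cases i <;> exact he⟩)
  set X : ResidueField Bq := (-1) ^ (e * f) * residue Bq (w : Bq) ^ f * (residue Bq (z : Bq) ^ e)⁻¹
  by_cases h0 : e = 0 ∧ f = 0
  · obtain ⟨rfl, rfl⟩ := h0
    rw [pow_zero, mul_one] at hae hbf
    rw [tame_map_units (hae ▸ w.isUnit) (hbf ▸ z.isUnit), map_one]
    refine (Finset.prod_eq_one fun P _ => ?_).symm
    haveI := isLocalHom_atPrime (A := A) P.1
    rw [tame_map_units, map_one]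
    · rw [← locMap_algebraMap q P.1 ((hS P.1).1 P.2), hae]
      exact w.isUnit.map _
    · rw [← locMap_algebraMap q P.1 ((hS P.1).1 P.2), hbf]
      exact z.isUnit.map _
  set d := ordN Bq π
  have htq : tame Bq (algebraMap A Bq a) (algebraMap A Bq b) = X ^ d := by
    rw [hae, hbf, tame_fac hπ]
  -- at a point of the fibre
  have hP : ∀ P : {P // P ∈ S}, ∃ m : ℕ,
      ordN (Localization.AtPrime P.1.asIdeal) (algebraMap A (Localization.AtPrime P.1.asIdeal) a) = e * m ∧
      ordN (Localization.AtPrime P.1.asIdeal) (algebraMap A (Localization.AtPrime P.1.asIdeal) b) = f * m ∧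
      (haveI := isLocalHom_atPrime (A := A) P.1;
        Algebra.norm (ResidueField A) (tame (Localization.AtPrime P.1.asIdeal)
          (algebraMap A (Localization.AtPrime P.1.asIdeal) a)
          (algebraMap A (Localization.AtPrime P.1.asIdeal) b)) =
          Algebra.norm (ResidueField A) X ^ (deg q P.1 ((hS P.1).1 P.2) * m)) := by
    rintro ⟨P, hPS⟩
    have h := (hS P).1 hPS
    haveI := isLocalHom_atPrime (A := A) P
    let CP := Localization.AtPrime P.asIdeal
    let g := locMap q P h
    have hga : algebraMap A CP a = (Units.map (g : Bq →* CP) w : CP) * g π ^ e := by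
      rw [← locMap_algebraMap q P h, hae, map_mul, map_pow]; rfl
    have hgb : algebraMap A CP b = (Units.map (g : Bq →* CP) z : CP) * g π ^ f := by
      rw [← locMap_algebraMap q P h, hbf, map_mul, map_pow]; rfl
    have hgπ : g π ∈ nonZeroDivisors CP := by
      rcases not_and_or.1 h0 with h0 | h0
      all_goals obtain ⟨k, hk⟩ := Nat.exists_eq_succ_of_ne_zero h0
      · have h2 := hga ▸ regular_localization hC P ha
        rw [hk, pow_succ'] at h2
        exact (mul_mem_nonZeroDivisors.1 (mul_mem_nonZeroDivisors.1 h2).2).1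
      · have h2 := hgb ▸ regular_localization hC P hb
        rw [hk, pow_succ'] at h2
        exact (mul_mem_nonZeroDivisors.1 (mul_mem_nonZeroDivisors.1 h2).2).1
    refine ⟨ordN CP (g π), by rw [hga, ordN_fac hgπ], by rw [hgb, ordN_fac hgπ], ?_⟩
    letI : Algebra Bq CP := g.toAlgebra
    haveI : IsLocalHom (algebraMap Bq CP) :=
      Localization.isLocalHom_localRingHom q.asIdeal P.asIdeal (algebraMap B C) h
    haveI : IsScalarTower A Bq CP := IsScalarTower.of_algebraMap_eq fun x => (locMap_algebraMap q P h x).symm
    haveI := finite_residue (A := A) q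
    haveI := finite_residue (A := A) P
    haveI : Module.Finite (ResidueField Bq) (ResidueField CP) :=
      Module.Finite.of_restrictScalars_finite (ResidueField A) _ _
    rw [hga, hgb, tame_fac hgπ]
    rw [show residue CP (Units.map (g : Bq →* CP) w : CP) =
          algebraMap (ResidueField Bq) (ResidueField CP) (residue Bq (w : Bq)) from rfl,
      show residue CP (Units.map (g : Bq →* CP) z : CP) =
          algebraMap (ResidueField Bq) (ResidueField CP) (residue Bq (z : Bq)) from rfl]
    have hX : (-1 : ResidueField CP) ^ (e * f) *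
        algebraMap (ResidueField Bq) (ResidueField CP) (residue Bq (w : Bq)) ^ f *
        (algebraMap (ResidueField Bq) (ResidueField CP) (residue Bq (z : Bq)) ^ e)⁻¹ =
        algebraMap (ResidueField Bq) (ResidueField CP) X := by
      simp only [X, map_mul, map_pow, map_inv₀, map_neg, map_one]
    rw [hX, map_pow, ← Algebra.norm_norm (R := ResidueField A) (S := ResidueField Bq), Algebra.norm_algebraMap,
      map_pow, ← pow_mul]
    rfl
  choose m hma hmb hm using hP
  rw [htq, map_pow, Finset.prod_congr rfl fun P _ => hm P, Finset.prod_pow_eq_pow_sum]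
  congr 1
  rcases not_and_or.1 h0 with h0 | h0
  · apply Nat.eq_of_mul_eq_mul_left (Nat.pos_of_ne_zero h0)
    rw [Finset.mul_sum, ← ordN_fac hπ w e, ← hae, ord_fibre hA hB hC q S hS ha]
    exact Finset.sum_congr rfl fun P _ => by rw [hma P]; ring
  · apply Nat.eq_of_mul_eq_mul_left (Nat.pos_of_ne_zero h0)
    rw [Finset.mul_sum, ← ordN_fac hπ z f, ← hbf, ord_fibre hA hB hC q S hS hb]
    exact Finset.sum_congr rfl fun P _ => by rw [hmb P]; ring

end

end Groth.Agent.TameAlg50
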