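import Groth.Agent.TameAlg50.Local
import Groth.Agent.CycAlg50.Periodic
import Mathlib.RingTheory.Ideal.GoingUp
import Mathlib.RingTheory.Norm.Transitivity
import Mathlib.RingTheory.LocalRing.ResidueField.Ideal

/-! Lengths of localizations along a finite ring extension. -/

set_option autoImplicit false
set_option linter.unusedSectionVars false
set_option linter.style.haveILetI false

universe u

namespace Groth.Agent.TameAlg50

open IsLocalRing

variable {B C : Type u} [CommRing B] [CommRing C] [Algebra B C]

/-- The contraction of a maximal ideal along a finite extension. -/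
def below (B : Type u) [CommRing B] {C : Type u} [CommRing C] [Algebra B C] [Module.Finite B C]
    (P : MaximalSpectrum C) : MaximalSpectrum B :=
  ⟨P.asIdeal.comap (algebraMap B C),
    haveI := P.isMaximal; Ideal.isMaximal_comap_of_isIntegral_of_isMaximal P.asIdeal⟩

/-- The local map between the localizations. -/
noncomputable abbrev locMap (q : MaximalSpectrum B) (P : MaximalSpectrum C)
    (h : q.asIdeal = P.asIdeal.comap (algebraMap B C)) :
    Localization.AtPrime q.asIdeal →+* Localization.AtPrime P.asIdeal :=
  Localization.localRingHom q.asIdeal P.asIdeal (algebraMap B C) h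

/-- The degree of the residue extension. -/
noncomputable def deg (q : MaximalSpectrum B) (P : MaximalSpectrum C)
    (h : q.asIdeal = P.asIdeal.comap (algebraMap B C)) : ℕ :=
  letI := (locMap q P h).toAlgebra
  haveI : IsLocalHom (algebraMap (Localization.AtPrime q.asIdeal) (Localization.AtPrime P.asIdeal)) :=
    Localization.isLocalHom_localRingHom q.asIdeal P.asIdeal (algebraMap B C) h
  Module.finrank (ResidueField (Localization.AtPrime q.asIdeal))
    (ResidueField (Localization.AtPrime P.asIdeal))

theorem locLen_zero_of_smul (q : MaximalSpectrum B) (N : Type u) [AddCommGroup N] [Module B N]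
    {c : B} (hc : c ∉ q.asIdeal) (h0 : ∀ x : N, c • x = 0) : Len90.locLen q.asIdeal N = 0 := by
  rw [Len90.locLen, Module.length_eq_zero_iff]
  refine subsingleton_of_forall_eq 0 fun x => ?_
  induction x using LocalizedModule.induction_on with
  | h m s =>
    rw [← LocalizedModule.zero_mk s, LocalizedModule.mk_eq]
    refine ⟨⟨c, hc⟩, ?_⟩
    simp only [smul_zero, Submonoid.smul_def]
    rw [h0]

theorem locLen_residue [Module.Finite B C] (q : MaximalSpectrum B) (P : MaximalSpectrum C)
    (h : q.asIdeal = P.asIdeal.comap (algebraMap B C)) :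
    Len90.locLen q.asIdeal (C ⧸ P.asIdeal) = deg q P h := by
  let Bq := Localization.AtPrime q.asIdeal
  let CP := Localization.AtPrime P.asIdeal
  letI : Algebra Bq CP := (locMap q P h).toAlgebra
  haveI : IsLocalHom (algebraMap Bq CP) :=
    Localization.isLocalHom_localRingHom q.asIdeal P.asIdeal (algebraMap B C) h
  haveI : IsScalarTower B Bq CP := IsScalarTower.of_algebraMap_eq fun x => by
    show algebraMap B CP x = locMap q P h (algebraMap B Bq x)
    rw [Localization.localRingHom_to_map, ← IsScalarTower.algebraMap_apply]
  let θ : (C ⧸ P.asIdeal) →ₗ[B] ResidueField CP :=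
    (Submodule.liftQ (P.asIdeal.restrictScalars B) (IsScalarTower.toAlgHom B C (ResidueField CP)).toLinearMap
      (fun x hx => by
        rw [LinearMap.mem_ker]
        show algebraMap C (ResidueField CP) x = 0
        rw [IsScalarTower.algebraMap_apply C CP, ResidueField.algebraMap_eq, residue_eq_zero_iff,
          IsLocalization.AtPrime.to_map_mem_maximal_iff CP P.asIdeal]
        exact hx)) ∘ₗ (Submodule.Quotient.restrictScalarsEquiv B P.asIdeal).symm.toLinearMap
  have hθ : ∀ x : C, θ (Ideal.Quotient.mk P.asIdeal x) = algebraMap C (ResidueField CP) x := fun x => rfl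
  have hbij : Function.Bijective θ := by
    refine ⟨(injective_iff_map_eq_zero θ).2 fun c hc => ?_, fun y => ?_⟩
    · obtain ⟨x, rfl⟩ := Ideal.Quotient.mk_surjective c
      rw [hθ, IsScalarTower.algebraMap_apply C CP, ResidueField.algebraMap_eq, residue_eq_zero_iff,
        IsLocalization.AtPrime.to_map_mem_maximal_iff CP P.asIdeal] at hc
      exact Ideal.Quotient.eq_zero_iff_mem.2 hc
    · obtain ⟨y, rfl⟩ := residue_surjective y
      obtain ⟨c, s, rfl⟩ := IsLocalization.exists_mk'_eq P.asIdeal.primeCompl y
      obtain ⟨t, ht⟩ : ∃ t, 1 - t * (s : C) ∈ P.asIdeal := by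
        have hs : Ideal.span {(s : C)} ⊔ P.asIdeal = ⊤ := by
          refine P.isMaximal.1.2 _ (lt_of_le_of_ne le_sup_right fun e => s.2 ?_)
          show (s : C) ∈ P.asIdeal
          exact e.symm.le (Ideal.mem_sup_left (Ideal.mem_span_singleton_self _))
        rw [Ideal.eq_top_iff_one, Submodule.mem_sup] at hs
        obtain ⟨_, hy, z, hz, hyz⟩ := hs
        obtain ⟨t, rfl⟩ := Ideal.mem_span_singleton'.1 hy
        exact ⟨t, by rwa [← hyz, add_sub_cancel_left]⟩
      refine ⟨Ideal.Quotient.mk P.asIdeal (c * t), ?_⟩
      rw [hθ, IsScalarTower.algebraMap_apply C CP, ResidueField.algebraMap_eq, ← sub_eq_zero, ← map_sub,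
        residue_eq_zero_iff]
      have hmem : algebraMap C CP (c * (1 - t * s)) ∈ maximalIdeal CP := by
        rw [IsLocalization.AtPrime.to_map_mem_maximal_iff CP P.asIdeal]
        exact Ideal.mul_mem_left _ _ ht
      have e : (algebraMap C CP (c * t) - IsLocalization.mk' CP c s) * algebraMap C CP (s : C) =
          -algebraMap C CP (c * (1 - t * s)) := by
        rw [sub_mul, IsLocalization.mk'_spec, ← map_mul, ← map_sub, ← map_neg]
        congr 1; ring
      refine ((maximalIdeal.isMaximal CP).isPrime.mem_or_mem (e ▸ neg_mem hmem)).resolve_right ?_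
      rw [IsLocalization.AtPrime.to_map_mem_maximal_iff CP P.asIdeal]
      exact s.2
  haveI : IsLocalizedModule q.asIdeal.primeCompl θ := by
    refine { map_units := fun s => ?_, surj := fun y => ?_, exists_of_eq := fun {x y} hxy => ?_ }
    · have hu : IsUnit (algebraMap B (ResidueField CP) s.1) := by
        rw [isUnit_iff_ne_zero, IsScalarTower.algebraMap_apply B C, ← hθ, ne_eq,
          map_eq_zero_iff θ hbij.1, Ideal.Quotient.eq_zero_iff_mem]
        exact fun hh => s.2 (h.symm.le (Ideal.mem_comap.2 hh))
      rw [Module.End.isUnit_iff]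
      constructor
      · intro x y e
        simp only [Module.algebraMap_end_apply, Algebra.smul_def] at e
        exact hu.mul_left_cancel e
      · intro y
        obtain ⟨v, hv⟩ := hu
        exact ⟨(↑v⁻¹ : ResidueField CP) * y, by
          simp only [Module.algebraMap_end_apply, Algebra.smul_def, ← hv, ← mul_assoc, Units.mul_inv,
            one_mul]⟩
    · obtain ⟨x, hx⟩ := hbij.2 y
      exact ⟨⟨x, 1⟩, by simp [hx]⟩
    · exact ⟨1, by rw [hbij.1 hxy]⟩
  haveI : IsScalarTower B Bq (ResidueField CP) := IsScalarTower.of_algebraMap_eq fun x => by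
    rw [IsScalarTower.algebraMap_apply B CP (ResidueField CP), IsScalarTower.algebraMap_apply Bq CP (ResidueField CP),
      ← IsScalarTower.algebraMap_apply B Bq CP]
  have e := (IsLocalizedModule.iso q.asIdeal.primeCompl θ).extendScalarsOfIsLocalization
    q.asIdeal.primeCompl Bq
  rw [Len90.locLen, e.length_eq, Module.length_eq_of_surjective (R := ResidueField Bq) residue_surjective]
  haveI : Module.Finite B (ResidueField CP) := Module.Finite.of_surjective θ hbij.2
  haveI : IsScalarTower B (ResidueField Bq) (ResidueField CP) := inferInstance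
  haveI : Module.Finite (ResidueField Bq) (ResidueField CP) :=
    Module.Finite.of_restrictScalars_finite B _ _
  rw [Module.length_eq_finrank]
  rfl

/-- Length at `q` is the sum over the maximal ideals above `q` of degree times length. -/
theorem locLen_fibre [IsNoetherianRing C] [Module.Finite B C] [Finite (MaximalSpectrum C)]
    (q : MaximalSpectrum B) (S : Finset (MaximalSpectrum C))
    (hS : ∀ P, P ∈ S ↔ q.asIdeal = P.asIdeal.comap (algebraMap B C))
    (N : Type u) [AddCommGroup N] [Module C N] [Module.Finite C N] :
    ∀ [Module B N] [IsScalarTower B C N], (∀ p ∈ Module.support C N, p.asIdeal.IsMaximal) →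
      Len90.locLen q.asIdeal N =
        ∑ P ∈ S.attach, (deg q P.1 ((hS P.1).1 P.2) : ℕ∞) * Len90.locLen P.1.asIdeal N := by
  have hzero : ∀ (N : Type u) [AddCommGroup N] [Module C N] [Subsingleton N] (P : MaximalSpectrum C),
      Len90.locLen P.asIdeal N = 0 := fun N _ _ _ P =>
    locLen_zero_of_smul P N (c := 1) (fun h => P.isMaximal.ne_top ((Ideal.eq_top_iff_one _).2 h))
      fun x => Subsingleton.elim _ _
  induction ‹Module.Finite C N› using IsNoetherianRing.induction_on_isQuotientEquivQuotientPrime C with
  | subsingleton N =>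
    intro _ _ _
    rw [locLen_zero_of_smul q N (c := 1) (fun h => q.isMaximal.ne_top ((Ideal.eq_top_iff_one _).2 h))
      fun x => Subsingleton.elim _ _]
    exact (Finset.sum_eq_zero fun P _ => by rw [hzero N P.1, mul_zero]).symm
  | quotient N p e =>
    intro _ _ hsupp
    classical
    have hp : p.asIdeal.IsMaximal := hsupp p <| by
      rw [e.support_eq, Module.mem_support_iff_of_finite, Ideal.annihilator_quotient]
    let P : MaximalSpectrum C := ⟨p.asIdeal, hp⟩
    have hR : ∀ P' : MaximalSpectrum C, Len90.locLen P'.asIdeal N = if P' = P then 1 else 0 := by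
      intro P'
      rw [Len90.locLen_congr P'.asIdeal e]
      split_ifs with h
      · subst h
        exact Len90.locLen_quot_self p.asIdeal
      · refine Len90.locLen_quot_of_not_le _ _ fun hle => h ?_
        exact MaximalSpectrum.ext (hp.eq_of_le P'.isMaximal.ne_top hle).symm
    have hL : Len90.locLen q.asIdeal N = Len90.locLen q.asIdeal (C ⧸ p.asIdeal) :=
      Len90.locLen_congr q.asIdeal (e.restrictScalars B)
    rw [hL]
    simp only [hR]
    by_cases hq : q.asIdeal = P.asIdeal.comap (algebraMap B C)
    · have : Len90.locLen q.asIdeal (C ⧸ P.asIdeal) = deg q P hq := locLen_residue q P hq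
      refine this.trans ?_
      rw [Finset.sum_eq_single ⟨P, (hS P).2 hq⟩]
      · simp
      · rintro ⟨P', hP'⟩ _ hne
        rw [if_neg, mul_zero]
        rintro rfl
        exact hne rfl
      · simp
    · have hmax : (p.asIdeal.comap (algebraMap B C)).IsMaximal :=
        (below B P).isMaximal
      obtain ⟨c, hc, hcq⟩ := SetLike.not_le_iff_exists.1 fun hle =>
        hq (hmax.eq_of_le q.isMaximal.ne_top hle).symm
      rw [locLen_zero_of_smul q (C ⧸ p.asIdeal) hcq fun x => ?_]
      · refine (Finset.sum_eq_zero fun P' _ => ?_).symm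
        rw [if_neg, mul_zero]
        intro h
        exact hq (h ▸ (hS P'.1).1 P'.2)
      · rw [← algebraMap_smul C c x, Algebra.smul_def, Ideal.Quotient.algebraMap_eq,
          Ideal.Quotient.eq_zero_iff_mem.2 (Ideal.mem_comap.1 hc), zero_mul]
  | exact N₁ N₂ N₃ f g hf hg hfg h1 h3 =>
    intro _ _ hsupp
    rw [Module.support_of_exact hfg hf hg] at hsupp
    letI : Module B N₁ := Module.compHom N₁ (algebraMap B C)
    letI : Module B N₃ := Module.compHom N₃ (algebraMap B C)
    haveI : IsScalarTower B C N₁ := IsScalarTower.of_algebraMap_smul fun r x => rfl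
    haveI : IsScalarTower B C N₃ := IsScalarTower.of_algebraMap_smul fun r x => rfl
    rw [Len90.locLen_exact q.asIdeal (f.restrictScalars B) (g.restrictScalars B) hf hg hfg,
      h1 fun p hp => hsupp p (Or.inl hp), h3 fun p hp => hsupp p (Or.inr hp), ← Finset.sum_add_distrib]
    refine Finset.sum_congr rfl fun P _ => ?_
    rw [Len90.locLen_exact P.1.asIdeal f g hf hg hfg, mul_add]

/-- The order in a localization. -/
theorem ord_localization (q : Ideal B) [q.IsPrime] (x : B) :
    Ring.ord (Localization.AtPrime q) (algebraMap B (Localization.AtPrime q) x) =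
      Len90.locLen q (B ⧸ Ideal.span {x}) := by
  let S := Localization.AtPrime q
  let f := Submodule.toLocalizedQuotient' S q.primeCompl (Algebra.linearMap B S) (Ideal.span {x})
  have e := (IsLocalizedModule.iso q.primeCompl f).extendScalarsOfIsLocalization q.primeCompl S
  rw [Len90.locLen, e.length_eq, Ring.ord]
  refine (Submodule.quotEquivOfEq _ _ ?_).length_eq
  rw [Submodule.localized'_span, Set.image_singleton]
  rfl

end Groth.Agent.TameAlg50
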